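import Cfsg.Agent.Lib.Fusion.RankOne.Frame
import Cfsg.Agent.Lib.Fusion.ThompsonTransferCyclic
import Cfsg.Prelude.Def_CaseTheorems

/-!
Four groups in groups of 2-rank one, a fusion obstruction from squares, and the transfer consequence.
-/

set_option autoImplicit false
set_option linter.style.haveILetI false

namespace Cfsg.Agent.Fusion.RankOne

variable {G : Type*} [Group G] [Finite G]

/-- A group of 2-rank one has no two commuting distinct involutions. -/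
theorem no_pair {H : Subgroup G} (h : Cfsg.PRankLE 2 1 ↥H) {p q : G} (hp : p ∈ H) (hq : q ∈ H) (hpp : p * p = 1)
    (hqq : q * q = 1) (hp1 : p ≠ 1) (hq1 : q ≠ 1) (hpq : p ≠ q) (hc : p * q = q * p) : False := by
  classical
  set V := Subgroup.zpowers (⟨p, hp⟩ : ↥H) ⊔ Subgroup.zpowers (⟨q, hq⟩ : ↥H) with hVdef
  have hV : Cfsg.IsElementaryAbelian 2 V :=
    Local.elemAb_sup (Local.elemAb_zpowers (Subtype.ext ((pow_two p).trans hpp)))
      (Local.elemAb_zpowers (Subtype.ext ((pow_two q).trans hqq))) fun a ha b hb => by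
        obtain ⟨n, rfl⟩ := Subgroup.mem_zpowers_iff.1 ha
        obtain ⟨l, rfl⟩ := Subgroup.mem_zpowers_iff.1 hb
        exact (Commute.zpow_zpow (show Commute (⟨p, hp⟩ : ↥H) ⟨q, hq⟩ from Subtype.ext hc) n l).eq
  have h2 : Nat.card V ≤ 2 ^ 1 := h V hV.1 hV.2
  let g : Fin 3 → V := ![1, ⟨⟨p, hp⟩, Subgroup.mem_sup_left (Subgroup.mem_zpowers _)⟩,
    ⟨⟨q, hq⟩, Subgroup.mem_sup_right (Subgroup.mem_zpowers _)⟩]
  have hg : Function.Injective g := by
    intro i k hik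
    have h' := congrArg (fun x : V => ((x : ↥H) : G)) hik
    fin_cases i <;> fin_cases k <;> simp [g] at h' ⊢ <;>
      first
        | exact absurd h' hp1 | exact absurd h'.symm hp1 | exact absurd h' hq1 | exact absurd h'.symm hq1
        | exact absurd h' hpq | exact absurd h'.symm hpq
  have := Nat.card_le_card_of_injective g hg
  rw [Nat.card_fin] at this
  omega

/-- An elementary abelian subgroup of order more than two contains two distinct involutions. -/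
theorem exists_pair {X : Type*} [Group X] [Finite X] {A : Subgroup X} (hA : IsMulCommutative A)
    (h2 : ∀ a ∈ A, a ^ 2 = 1) (hc : 2 < Nat.card A) :
    ∃ p ∈ A, ∃ q ∈ A, p * p = 1 ∧ q * q = 1 ∧ p ≠ 1 ∧ q ≠ 1 ∧ p ≠ q ∧ p * q = q * p := by
  classical
  haveI := Fintype.ofFinite A
  rw [Nat.card_eq_fintype_card] at hc
  obtain ⟨p, hp, q, hq, hpq⟩ := Finset.one_lt_card.1 (show 1 < ((Finset.univ : Finset A).erase 1).card by
    rw [Finset.card_erase_of_mem (Finset.mem_univ _), Finset.card_univ]; omega)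
  refine ⟨p, p.2, q, q.2, (pow_two _).symm.trans (h2 p p.2), (pow_two _).symm.trans (h2 q q.2),
    fun h => (Finset.mem_erase.1 hp).1 (Subtype.ext h), fun h => (Finset.mem_erase.1 hq).1 (Subtype.ext h),
    fun h => hpq (Subtype.ext h), ?_⟩
  haveI := hA
  exact setLike_mul_comm p.2 q.2

/-- The frame inside a 2-subgroup `W` normalizing `S`. -/
theorem exists_frame {W S : Subgroup G} (hW : IsPGroup 2 W) (hSW : S ≤ W)
    (hn : ∀ w ∈ W, ∀ x ∈ S, w * x * w⁻¹ ∈ S)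
    (hno : ∀ E : Subgroup G, E ≤ S → Cfsg.IsElementaryAbelian 2 E → Nat.card E = 4 →
      (∀ w ∈ W, ∀ x ∈ E, w * x * w⁻¹ ∈ E) → False)
    {u v : G} (hu : u ∈ S) (hv : v ∈ S) (huu : u * u = 1) (hvv : v * v = 1) (hu1 : u ≠ 1) (hv1 : v ≠ 1)
    (huv : u ≠ v) (hc : u * v = v * u) :
    ∃ (C : Subgroup G) (j s : G), C ≤ S ∧ IsCyclic C ∧ (∀ w ∈ W, ∀ x ∈ C, w * x * w⁻¹ ∈ C) ∧ j ∈ C ∧
      orderOf j = 4 ∧ s ∈ S ∧ s ∉ C ∧ s * s = 1 ∧ s * j * s⁻¹ = j⁻¹ ∧
      ∀ x ∈ S, ∀ y ∈ S, x ∉ C → y ∉ C → x * y ∈ C := by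
  haveI : (S.subgroupOf W).Normal := ⟨fun x hx g => hn g g.2 x hx⟩
  obtain ⟨C, j, s, hCn, hCS, hCc, hj, hj4, hs, hsC, hss, hsj, hprod⟩ := exists_frame_normal hW (S.subgroupOf W)
    (fun E hEn hES hE hE4 => hno (E.map W.subtype) (by
        rintro _ ⟨x, hx, rfl⟩
        exact hES hx)
      ⟨by haveI := hE.1; exact Subgroup.map_isMulCommutative E _, by
        rintro _ ⟨x, hx, rfl⟩
        rw [← map_pow, hE.2 x hx, map_one]⟩
      (by rw [Subgroup.card_map_of_injective (f := W.subtype) W.subtype_injective, hE4])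
      (by
        rintro w hw _ ⟨x, hx, rfl⟩
        exact ⟨_, hEn.conj_mem x hx ⟨w, hw⟩, rfl⟩))
    (u := ⟨u, hSW hu⟩) (v := ⟨v, hSW hv⟩) hu hv (Subtype.ext huu) (Subtype.ext hvv)
    (fun h => hu1 (congrArg Subtype.val h)) (fun h => hv1 (congrArg Subtype.val h))
    (fun h => huv (congrArg Subtype.val h)) (Subtype.ext hc)
  refine ⟨C.map W.subtype, j, s, ?_, ?_, ?_, Subgroup.mem_map_of_mem _ hj, by rw [Subgroup.orderOf_coe]; exact hj4,
    hs, ?_, congrArg Subtype.val hss, congrArg Subtype.val hsj, ?_⟩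
  · rintro _ ⟨x, hx, rfl⟩
    exact hCS hx
  · haveI := hCc
    exact isCyclic_of_surjective (C.equivMapOfInjective W.subtype W.subtype_injective).toMonoidHom
      (MulEquiv.surjective _)
  · rintro w hw _ ⟨x, hx, rfl⟩
    exact ⟨_, hCn.conj_mem x hx ⟨w, hw⟩, rfl⟩
  · rintro ⟨x, hx, hxs⟩
    exact hsC (Subtype.ext hxs ▸ hx)
  · intro x hx y hy hxC hyC
    exact ⟨_, hprod ⟨x, hSW hx⟩ hx ⟨y, hSW hy⟩ hy (fun h => hxC ⟨_, h, rfl⟩) (fun h => hyC ⟨_, h, rfl⟩), rfl⟩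

/-- An involution commuting with an element of order four squaring to `z` is not fused to `z`, if `z` is central in
a Sylow subgroup in which it is the only involution that is a square. -/
theorem not_fused {B T : Subgroup G} (hT : SylIn 2 T B) {z s c : G} (hz : ∀ x ∈ T, x * z = z * x)
    (hsT : s ∈ T) (hcT : c ∈ T) (hc2 : c * c = z) (hcs : c * s = s * c) (hz2 : z * z = 1) (hz1 : z ≠ 1) (hsz : s ≠ z)
    (hsq : ∀ x ∈ T, x * x * (x * x) = 1 → x * x ≠ 1 → x * x = z) {g : G} (hg : g ∈ B) :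
    g * s * g⁻¹ ≠ z := by
  intro hgs
  haveI : Fact (Nat.Prime 2) := ⟨Nat.prime_two⟩
  obtain ⟨D, hD⟩ : ∃ D, D = B ⊓ Subgroup.centralizer {s} := ⟨_, rfl⟩
  -- the conjugate of `T` is a Sylow subgroup of the centralizer of `s`
  have hT' : SylIn 2 (cj T g⁻¹) D := by
    have h1 : SylIn 2 (cj T g⁻¹) B := hT.cj' (Subgroup.le_normalizer (inv_mem hg))
    refine h1.mono (hD ▸ le_inf h1.le fun x hx => ?_) (hD ▸ inf_le_left)
    rw [mem_cj, inv_inv] at hx
    rw [Subgroup.mem_centralizer_singleton_iff]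
    have := hz _ hx
    rw [← hgs] at this
    calc x * s = g⁻¹ * (g * x * g⁻¹ * (g * s * g⁻¹)) * g := by group
      _ = g⁻¹ * (g * s * g⁻¹ * (g * x * g⁻¹)) * g := by rw [this]
      _ = s * x := by group
  have hQ : Subgroup.closure {c, s} ≤ T := (Subgroup.closure_le _).2 fun x hx => by
    rcases hx with rfl | rfl
    · exact hcT
    · exact hsT
  have hQD : Subgroup.closure {c, s} ≤ D := by
    refine hD ▸ le_inf (hQ.trans hT.le) ((Subgroup.closure_le _).2 fun x hx => ?_)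
    rw [SetLike.mem_coe, Subgroup.mem_centralizer_singleton_iff]
    rcases hx with rfl | rfl
    · exact hcs
    · rfl
  obtain ⟨k, hk, hkle⟩ := hT'.conj_le (hT.isPGroup.to_le hQ) hQD
  rw [hD] at hk
  have hks : k * s * k⁻¹ = s := mul_inv_eq_iff_eq_mul.2 (Subgroup.mem_centralizer_singleton_iff.1 hk.2)
  have hc' : g * (k * c * k⁻¹) * g⁻¹ ∈ T := by
    have h := hkle (conj_mem_cj (Subgroup.subset_closure (Set.mem_insert c _)))
    rw [mem_cj, inv_inv] at h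
    exact h
  obtain ⟨h', hh'⟩ : ∃ h', h' = g * k := ⟨_, rfl⟩
  have e : g * (k * c * k⁻¹) * g⁻¹ = h' * c * h'⁻¹ := by rw [hh']; group
  rw [e] at hc'
  have hs' : h' * s * h'⁻¹ = z := by
    rw [hh', show g * k * s * (g * k)⁻¹ = g * (k * s * k⁻¹) * g⁻¹ by group, hks, hgs]
  have e2 : h' * c * h'⁻¹ * (h' * c * h'⁻¹) = h' * z * h'⁻¹ := by rw [← hc2]; group
  have hz' : h' * z * h'⁻¹ = z := by
    have := hsq _ hc' (by rw [e2, show h' * z * h'⁻¹ * (h' * z * h'⁻¹) = h' * (z * z) * h'⁻¹ by group, hz2]; group)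
      (by rw [e2]; exact fun h => hz1 (conj_eq_one_iff.1 h))
    rwa [e2] at this
  exact hsz (mul_left_cancel (mul_right_cancel (hs'.trans hz'.symm)))

/-- A perfect group has no Sylow 2-subgroup with a cyclic subgroup of index two and an involution outside it that is
not conjugate to the involution inside. -/
theorem transfer_false {A S C : Subgroup G} (hA : commutator ↥A = ⊤) (hS : SylIn 2 S A) (hCS : C ≤ S)
    (hC : IsCyclic C) (hCn : ∀ w ∈ S, ∀ x ∈ C, w * x * w⁻¹ ∈ C)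
    (hprod : ∀ x ∈ S, ∀ y ∈ S, x ∉ C → y ∉ C → x * y ∈ C) {z s : G} (hzC : z ∈ C) (hz2 : z * z = 1) (hz1 : z ≠ 1)
    (hsS : s ∈ S) (hsC : s ∉ C) (hss : s * s = 1) (hns : ∀ g ∈ A, g * s * g⁻¹ ≠ z) : False := by
  haveI : Fact (Nat.Prime 2) := ⟨Nat.prime_two⟩
  obtain ⟨P, hP⟩ := hS.exists_sylow_subgroupOf
  have hs1 : s ≠ 1 := fun h => hsC (h ▸ one_mem C)
  have hsA : s ∈ A := hS.le hsS
  have hmemP : ∀ x : ↥A, x ∈ (P : Subgroup ↥A) ↔ (x : G) ∈ S := fun x => by rw [hP, Subgroup.mem_subgroupOf]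
  have hTS : C.subgroupOf A ≤ (P : Subgroup ↥A) := fun x hx => (hmemP x).2 (hCS hx)
  haveI : ((C.subgroupOf A).subgroupOf (P : Subgroup ↥A)).Normal :=
    ⟨fun x hx w => hCn _ ((hmemP w).1 w.2) _ hx⟩
  have hsP : (⟨s, hsA⟩ : ↥A) ∈ (P : Subgroup ↥A) := (hmemP _).2 hsS
  have hcyc : IsCyclic (↥(P : Subgroup ↥A) ⧸ (C.subgroupOf A).subgroupOf (P : Subgroup ↥A)) := by
    refine ⟨⟨QuotientGroup.mk (⟨⟨s, hsA⟩, hsP⟩ : ↥(P : Subgroup ↥A)), fun q => ?_⟩⟩
    obtain ⟨x, rfl⟩ := QuotientGroup.mk_surjective q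
    by_cases hx : ((x : ↥A) : G) ∈ C
    · exact ⟨0, (zpow_zero _).trans ((QuotientGroup.eq_one_iff x).2 hx).symm⟩
    · refine ⟨1, ?_⟩
      simp only [zpow_one]
      rw [QuotientGroup.eq]
      show s⁻¹ * ((x : ↥A) : G) ∈ C
      exact hprod _ (inv_mem hsS) _ ((hmemP _).1 x.2) (fun h => hsC (by simpa using inv_mem h)) hx
  have ho : orderOf (⟨s, hsA⟩ : ↥A) = 2 := by
    rw [Subgroup.orderOf_mk]; exact orderOf_eq_prime ((pow_two s).trans hss) hs1
  obtain ⟨g, hgC, -, -⟩ := extremal_transfer_cyclic hA P (C.subgroupOf A) hTS hcyc ho hsP hsC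
  have hmem : (g : G) * s * (g : G)⁻¹ ∈ C := hgC
  rcases sq_one_cases hC hzC hmem hz2 hz1
    (by rw [show (g : G) * s * (g : G)⁻¹ * ((g : G) * s * (g : G)⁻¹) = g * (s * s) * (g : G)⁻¹ by group, hss]; group)
    with h | h
  · exact hs1 (conj_eq_one_iff.1 h)
  · exact hns g g.2 h

end Cfsg.Agent.Fusion.RankOne
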