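import Cfsg.Agent.Lib.Fusion.RankOne.Quot
import Cfsg.Agent.Lib.Fusion.RankOne.Basic
import Cfsg.Agent.Lib.Fusion.Cores
import Cfsg.Agent.Lib.Char.HomocyclicSylow

/-!
Transfer and Burnside fusion relative to a subgroup, and the exclusion of an abelian Sylow 2-subgroup of type (4,4)
in a perfect group.
-/

set_option autoImplicit false
set_option linter.style.haveILetI false

namespace Cfsg.Agent.Fusion.RankOne

variable {G : Type*} [Group G] [Finite G]

/-- The transfer lemma with a cyclic quotient, for a perfect subgroup. -/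
theorem extremal_in {A S T : Subgroup G} (hA : commutator ↥A = ⊤) (hS : SylIn 2 S A) (hTS : T ≤ S)
    (hTn : ∀ w ∈ S, ∀ x ∈ T, w * x * w⁻¹ ∈ T) {f : G} (hf : f ∈ S) (hgen : ∀ x ∈ S, ∃ n : ℤ, (f ^ n)⁻¹ * x ∈ T)
    {y : G} (hy : y ∈ S) (hyy : y * y = 1) (hyT : y ∉ T) :
    ∃ g ∈ A, g * y * g⁻¹ ∈ T ∧
      ∀ x ∈ S, x * y = y * x → g * x * g⁻¹ ∈ S ∧ g * x * g⁻¹ * (g * y * g⁻¹) = g * y * g⁻¹ * (g * x * g⁻¹) := by
  haveI : Fact (Nat.Prime 2) := ⟨Nat.prime_two⟩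
  obtain ⟨P, hP⟩ := hS.exists_sylow_subgroupOf
  have hmemP : ∀ x : ↥A, x ∈ (P : Subgroup ↥A) ↔ (x : G) ∈ S := fun x => by rw [hP, Subgroup.mem_subgroupOf]
  have hTP : T.subgroupOf A ≤ (P : Subgroup ↥A) := fun x hx => (hmemP x).2 (hTS hx)
  haveI : ((T.subgroupOf A).subgroupOf (P : Subgroup ↥A)).Normal :=
    ⟨fun x hx w => hTn _ ((hmemP w).1 w.2) _ hx⟩
  have hfP : (⟨f, hS.le hf⟩ : ↥A) ∈ (P : Subgroup ↥A) := (hmemP _).2 hf
  have hcyc : IsCyclic (↥(P : Subgroup ↥A) ⧸ (T.subgroupOf A).subgroupOf (P : Subgroup ↥A)) := by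
    refine ⟨⟨QuotientGroup.mk (⟨⟨f, hS.le hf⟩, hfP⟩ : ↥(P : Subgroup ↥A)), fun q => ?_⟩⟩
    obtain ⟨x, rfl⟩ := QuotientGroup.mk_surjective q
    obtain ⟨n, hn⟩ := hgen _ ((hmemP _).1 x.2)
    refine ⟨n, ?_⟩
    show QuotientGroup.mk _ ^ n = QuotientGroup.mk x
    rw [← QuotientGroup.mk_zpow, QuotientGroup.eq]
    exact hn
  have hy1 : y ≠ 1 := fun h => hyT (h ▸ one_mem T)
  have ho : orderOf (⟨y, hS.le hy⟩ : ↥A) = 2 := by
    rw [Subgroup.orderOf_mk]; exact orderOf_eq_prime ((pow_two y).trans hyy) hy1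
  obtain ⟨g, hgT, -, hle⟩ := extremal_transfer_cyclic hA P (T.subgroupOf A) hTP hcyc ho ((hmemP _).2 hy) hyT
  refine ⟨g, g.2, hgT, fun x hx hxy => ?_⟩
  have hm := hle (Subgroup.mem_map_of_mem _ (show (⟨x, hS.le hx⟩ : ↥A) ∈ (P : Subgroup ↥A) ⊓
    Subgroup.centralizer {(⟨y, hS.le hy⟩ : ↥A)} from
      ⟨(hmemP _).2 hx, Subgroup.mem_centralizer_singleton_iff.2 (Subtype.ext hxy)⟩))
  exact ⟨(hmemP _).1 hm.1, congrArg Subtype.val (Subgroup.mem_centralizer_singleton_iff.1 hm.2)⟩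

/-- Burnside: conjugate elements centralizing a Sylow subgroup are conjugate in its normalizer. -/
theorem burnside_in {A S : Subgroup G} (hS : SylIn 2 S A) {y y' : G} (hy : ∀ x ∈ S, x * y = y * x)
    (hy' : ∀ x ∈ S, x * y' = y' * x) {g : G} (hg : g ∈ A) (hgy : g * y * g⁻¹ = y') :
    ∃ n ∈ A, n * y * n⁻¹ = y' ∧ ∀ x ∈ S, n * x * n⁻¹ ∈ S := by
  haveI : Fact (Nat.Prime 2) := ⟨Nat.prime_two⟩
  have h1 : SylIn 2 S (A ⊓ Subgroup.centralizer {y'}) :=
    hS.mono (le_inf hS.le fun x hx => Subgroup.mem_centralizer_singleton_iff.2 (hy' x hx)) inf_le_left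
  have h2 : SylIn 2 (cj S g) (A ⊓ Subgroup.centralizer {y'}) := by
    have h3 : SylIn 2 (cj S g) A := hS.cj' (Subgroup.le_normalizer hg)
    refine h3.mono (le_inf h3.le fun x hx => ?_) inf_le_left
    rw [mem_cj] at hx
    rw [Subgroup.mem_centralizer_singleton_iff, ← hgy]
    calc x * (g * y * g⁻¹) = g * (g⁻¹ * x * g * y) * g⁻¹ := by group
      _ = g * (y * (g⁻¹ * x * g)) * g⁻¹ := by rw [hy _ hx]
      _ = g * y * g⁻¹ * x := by group
  obtain ⟨k, hk, hkeq⟩ := h2.conj_eq h1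
  have hk' := Subgroup.mem_centralizer_singleton_iff.1 hk.2
  refine ⟨k * g, mul_mem hk.1 hg, ?_, fun x hx => ?_⟩
  · rw [show k * g * y * (k * g)⁻¹ = k * (g * y * g⁻¹) * k⁻¹ by group, hgy, hk', mul_inv_cancel_right]
  · rw [← hkeq, cj_cj]
    exact conj_mem_cj hx

open Cfsg.Agent.Char in
/-- A perfect group has no abelian Sylow 2-subgroup of type (4,4). -/
theorem not_four_four {A : Type*} [Group A] [Finite A] (hA : commutator A = ⊤) (P : Sylow 2 A) {a f : A}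
    (ha : a ∈ P) (hf : f ∈ P) (hc : a * f = f * a) (ha4 : a ^ 4 = 1) (hf4 : f ^ 4 = 1)
    (hindep : ∀ m n : ℕ, m < 4 → n < 4 → a ^ m * f ^ n = 1 → m = 0 ∧ n = 0)
    (hgen : ∀ x ∈ P, ∃ m n : ℤ, x = a ^ m * f ^ n) : False := by
  classical
  haveI : Fact (Nat.Prime 2) := ⟨Nat.prime_two⟩
  have hpow : ∀ {w : A}, w ^ 4 = 1 → ∀ u v : ZMod 4, w ^ (u + v).val = w ^ u.val * w ^ v.val := by
    intro w hw u v
    rw [← pow_add, ZMod.val_add]
    conv_rhs => rw [← Nat.mod_add_div (u.val + v.val) 4, pow_add, pow_mul, hw, one_pow, mul_one]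
  let ι : Multiplicative (HV 4) →* A :=
    { toFun := fun x => a ^ x.toAdd.1.val * f ^ x.toAdd.2.val
      map_one' := by simp
      map_mul' := fun x y => by
        show a ^ (x.toAdd.1 + y.toAdd.1).val * f ^ (x.toAdd.2 + y.toAdd.2).val = _
        rw [hpow ha4, hpow hf4]
        exact (((show Commute a f from hc).pow_pow _ _).mul_mul_mul_comm _ _) }
  have hιinj : ∀ x, ι x = 1 → x = 1 := fun x hx => by
    obtain ⟨h1, h2⟩ := hindep _ _ (ZMod.val_lt _) (ZMod.val_lt _) hx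
    exact Multiplicative.toAdd.injective (Prod.ext ((ZMod.val_eq_zero _).1 h1) ((ZMod.val_eq_zero _).1 h2))
  have hzp : ∀ {w : A}, w ^ 4 = 1 → ∀ m : ℤ, w ^ m = w ^ (m : ZMod 4).val := by
    intro w hw m
    rw [← zpow_natCast, ZMod.val_intCast]
    conv_lhs => rw [← Int.emod_add_mul_ediv m 4, zpow_add, zpow_mul,
      show w ^ (4 : ℤ) = 1 by rw [show (4 : ℤ) = ((4 : ℕ) : ℤ) from rfl, zpow_natCast, hw], one_zpow, mul_one]
    rfl
  -- pass to the quotient by the core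
  obtain ⟨q, hq⟩ : ∃ q, q = (QuotientGroup.mk' (Cfsg.oddCore A)).comp ι := ⟨_, rfl⟩
  have hodd : Odd (Nat.card (Cfsg.oddCore A)) := Nat.coprime_two_right.mp (Fusion.card_pPrimeCore_coprime 2 A)
  have hι2 : ∀ x : Multiplicative (HV 4), x ^ 4 = 1 := fun x => Multiplicative.toAdd.injective (by
    rw [toAdd_pow, toAdd_one]
    refine Prod.ext ?_ ?_
    · show (4 : ℕ) • x.toAdd.1 = 0
      generalize x.toAdd.1 = u; revert u; decide
    · show (4 : ℕ) • x.toAdd.2 = 0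
      generalize x.toAdd.2 = u; revert u; decide)
  have hqinj : Function.Injective q := by
    refine (injective_iff_map_eq_one q).2 fun x hx => hιinj x ?_
    rw [hq, MonoidHom.comp_apply, QuotientGroup.mk'_apply, QuotientGroup.eq_one_iff] at hx
    have h1 : orderOf (ι x) ∣ Nat.card (Cfsg.oddCore A) := by
      rw [← Subgroup.orderOf_mk (ι x) hx]; exact orderOf_dvd_natCard _
    have h2 : orderOf (ι x) ∣ 2 ^ 2 := orderOf_dvd_of_pow_eq_one (by rw [← map_pow, show 2 ^ 2 = 4 from rfl, hι2, map_one])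
    obtain ⟨k, hk, hk'⟩ := (Nat.dvd_prime_pow Nat.prime_two).1 h2
    rcases k with _ | k
    · exact orderOf_eq_one_iff.1 hk'
    · exact absurd (dvd_trans (Dvd.intro_left _ (pow_succ 2 k).symm) (hk' ▸ h1))
        (by rw [Nat.two_dvd_ne_zero]; exact Nat.odd_iff.1 hodd)
  have hrange : ι.range = (P : Subgroup A) := by
    refine le_antisymm ?_ fun x hx => ?_
    · rintro _ ⟨x, rfl⟩
      exact mul_mem (pow_mem ha _) (pow_mem hf _)
    · obtain ⟨m, n, rfl⟩ := hgen x hx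
      exact ⟨Multiplicative.ofAdd ((m : ZMod 4), (n : ZMod 4)), by
        show a ^ (m : ZMod 4).val * f ^ (n : ZMod 4).val = _
        rw [hzp ha4, hzp hf4]⟩
  obtain ⟨Q, hQ⟩ : ∃ Q : Sylow 2 (A ⧸ Cfsg.oddCore A), (Q : Subgroup (A ⧸ Cfsg.oddCore A)) =
      (P : Subgroup A).map (QuotientGroup.mk' (Cfsg.oddCore A)) :=
    ⟨P.mapSurjective (QuotientGroup.mk'_surjective _), rfl⟩
  letI : Fintype (A ⧸ Cfsg.oddCore A) := Fintype.ofFinite _
  obtain ⟨hn, -, hi⟩ := Char.homocyclic_sylow_two (N := 4) Q q dvd_rfl ⟨2, rfl⟩ hqinj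
    (by rw [hQ, hq, MonoidHom.range_comp, hrange])
    (fun K hK hKodd => by
      have hb : Cfsg.pPrimeCore 2 (A ⧸ Cfsg.pPrimeCore 2 A) = ⊥ := Fusion.pPrimeCore_quotient_eq_bot
      haveI := hK
      exact le_bot_iff.1 (hb ▸ Fusion.le_pPrimeCore (Nat.coprime_two_right.mpr hKodd)))
  -- a perfect group has no nontrivial abelian quotient
  have hperf : ∀ {B : Type _} [Group B], (∀ x y : B, x * y = y * x) → ∀ φ : A →* B, ∀ x, φ x = 1 := by
    intro B _ hB φ x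
    letI : CommGroup B := { (inferInstance : Group B) with mul_comm := hB }
    exact MonoidHom.mem_ker.1 (Abelianization.commutator_subset_ker φ (hA ▸ Subgroup.mem_top x))
  haveI := hn
  have hQtop : (Q : Subgroup (A ⧸ Cfsg.oddCore A)) = ⊤ := by
    rw [eq_top_iff]
    rintro x -
    obtain ⟨x, rfl⟩ := QuotientGroup.mk_surjective x
    refine (QuotientGroup.eq_one_iff (N := (Q : Subgroup (A ⧸ Cfsg.oddCore A))) _).1 ?_
    refine hperf (B := (A ⧸ Cfsg.oddCore A) ⧸ (Q : Subgroup (A ⧸ Cfsg.oddCore A))) ?_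
      ((QuotientGroup.mk' _).comp (QuotientGroup.mk' _)) x
    rcases hi with hi | hi
    · rw [Subgroup.index_eq_card, Nat.card_eq_one_iff_unique] at hi
      exact fun u v => @Subsingleton.elim _ hi.1 _ _
    · haveI : Fact (Nat.Prime 3) := ⟨Nat.prime_three⟩
      haveI := isCyclic_of_prime_card (Subgroup.index_eq_card (Q : Subgroup (A ⧸ Cfsg.oddCore A)) ▸ hi)
      exact fun u v => IsCyclic.commGroup.mul_comm u v
  have hall : ∀ x : A, (QuotientGroup.mk x : A ⧸ Cfsg.oddCore A) = 1 := by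
    refine hperf (B := A ⧸ Cfsg.oddCore A) (fun u v => ?_) (QuotientGroup.mk' _)
    have hu : u ∈ (Q : Subgroup (A ⧸ Cfsg.oddCore A)) := hQtop ▸ Subgroup.mem_top u
    have hv : v ∈ (Q : Subgroup (A ⧸ Cfsg.oddCore A)) := hQtop ▸ Subgroup.mem_top v
    rw [hQ, ← hrange, ← MonoidHom.range_comp, ← hq] at hu hv
    obtain ⟨x, rfl⟩ := hu
    obtain ⟨y, rfl⟩ := hv
    rw [← map_mul, ← map_mul, mul_comm]
  have : q (Multiplicative.ofAdd ((1 : ZMod 4), (0 : ZMod 4))) = 1 := by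
    rw [hq, MonoidHom.comp_apply, QuotientGroup.mk'_apply]
    exact hall _
  rw [← map_one q] at this
  exact absurd (hqinj this) (by decide)

end Cfsg.Agent.Fusion.RankOne
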