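import Cfsg.Agent.Lib.Fusion.RankOne.Inv
import Cfsg.Agent.Lib.Fusion.RankOne.FourTools

/-!
An involution acting on a perfect group with centraliser having cyclic Sylow 2-subgroups of order four: no invariant
four group.
-/

set_option autoImplicit false
set_option linter.style.haveILetI false

namespace Cfsg.Agent.Fusion.RankOne

variable {G : Type*} [Group G] [Finite G]

namespace Ctx

variable {A W S : Subgroup G} {t i : G} (h : Ctx A W S t i)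
include h

theorem zp_cases {x : G} (hx : x ∈ Subgroup.zpowers i) : x = 1 ∨ x = i ∨ x = i * i ∨ x = i * i * i := by
  obtain ⟨n, rfl⟩ := Subgroup.mem_zpowers_iff.1 hx
  have h4 : i ^ (4 : ℤ) = 1 := by
    rw [show (4 : ℤ) = ((4 : ℕ) : ℤ) from rfl, zpow_natCast, ← h.io, pow_orderOf_eq_one]
  rw [← Int.emod_add_mul_ediv n 4, zpow_add, zpow_mul, h4, one_zpow, mul_one]
  have h1 : n % 4 = 0 ∨ n % 4 = 1 ∨ n % 4 = 2 ∨ n % 4 = 3 := by omega
  rcases h1 with e | e | e | e <;> rw [e]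
  · exact Or.inl (zpow_zero i)
  · exact Or.inr (Or.inl (zpow_one i))
  · exact Or.inr (Or.inr (Or.inl (by rw [show (2 : ℤ) = 1 + 1 from rfl, zpow_add, zpow_one])))
  · exact Or.inr (Or.inr (Or.inr (by rw [show (3 : ℤ) = 1 + 1 + 1 from rfl, zpow_add, zpow_add, zpow_one])))

/-- The data of an invariant four group. -/
theorem four_e {E : Subgroup G} (hES : E ≤ S) (hE : Cfsg.IsElementaryAbelian 2 E) (hE4 : Nat.card E = 4)
    (hEW : ∀ w ∈ W, ∀ x ∈ E, w * x * w⁻¹ ∈ E) :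
    i * i ∈ E ∧ (∀ w ∈ W, w * (i * i) * w⁻¹ = i * i) ∧ ∃ e ∈ E, e * e = 1 ∧ e ≠ 1 ∧ e ≠ i * i ∧
      e * (i * i) = i * i * e ∧ (∀ d ∈ E, d = 1 ∨ d = i * i ∨ d = e ∨ d = e * (i * i)) ∧
      t * e * t⁻¹ = e * (i * i) ∧ ∀ w ∈ W, w * e * w⁻¹ = e ∨ w * e * w⁻¹ = e * (i * i) := by
  have hEle : E ≤ W := hES.trans h.SW
  haveI : (E.subgroupOf W).Normal := ⟨fun x hx g => hEW g g.2 x hx⟩
  have hle : E.subgroupOf W ≤ S.subgroupOf W := fun x hx => hES hx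
  have hel : Cfsg.IsElementaryAbelian 2 (E.subgroupOf W) := by
    haveI := hE.1
    have hab : ∀ x ∈ E, ∀ y ∈ E, x * y = y * x := fun x hx y hy => setLike_mul_comm hx hy
    exact ⟨⟨⟨fun a b => Subtype.ext (Subtype.ext (hab _ a.2 _ b.2))⟩⟩,
      fun a ha => Subtype.ext (by exact hE.2 (a : G) ha)⟩
  have h4 : Nat.card (E.subgroupOf W) = 4 := by
    rw [Nat.card_congr (Subgroup.subgroupOfEquivOfLe hEle).toEquiv, hE4]
  obtain ⟨hz, -, -, hcen, e, heE, hee, he1, hez, hc, hall, hte, hconj⟩ :=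
    four_data h.hW hle hel h4 (τ := ⟨t, h.tW⟩) (ι := (⟨i * i, h.SW (mul_mem h.iS h.iS)⟩ : ↥W)) fun x hx hxx hxt => by
      by_cases hx1 : x = 1
      · exact Or.inl hx1
      · exact Or.inr (Subtype.ext (h.fixed_invol hx (congrArg Subtype.val hxx) (fun e => hx1 (Subtype.ext e))
          (congrArg Subtype.val hxt)))
  refine ⟨hz, fun w hw => congrArg Subtype.val (hcen ⟨w, hw⟩), e, heE, congrArg Subtype.val hee,
    fun e' => he1 (Subtype.ext e'), fun e' => hez (Subtype.ext e'), congrArg Subtype.val hc, fun d hd => ?_,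
    congrArg Subtype.val hte, fun w hw => ?_⟩
  · rcases hall ⟨d, hEle hd⟩ hd with e' | e' | e' | e'
    · exact Or.inl (congrArg Subtype.val e')
    · exact Or.inr (Or.inl (congrArg Subtype.val e'))
    · exact Or.inr (Or.inr (Or.inl (congrArg Subtype.val e')))
    · exact Or.inr (Or.inr (Or.inr (congrArg Subtype.val e')))
  · exact (hconj ⟨w, hw⟩).imp (congrArg Subtype.val) (congrArg Subtype.val)

/-- An element of `S` moved by `t` within the four group lies in `⟨i⟩ E`. -/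
theorem moved {E : Subgroup G} {e : G} (hee : e * e = 1) (hez : e * (i * i) = i * i * e)
    (hall : ∀ d ∈ E, d = 1 ∨ d = i * i ∨ d = e ∨ d = e * (i * i)) (hte : t * e * t⁻¹ = e * (i * i))
    (hzt : t * (i * i) * t⁻¹ = i * i) (heS : e ∈ S) {x : G} (hx : x ∈ S) (hd : x⁻¹ * (t * x * t⁻¹) ∈ E) :
    x ∈ Subgroup.zpowers i ∨ x * e ∈ Subgroup.zpowers i :=
  (fix_or h.tt hzt hte h.z_sq hee h.z_ne hez (hall _ hd)).imp (h.fix x hx) (h.fix _ (mul_mem hx heS))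

/-- The lift of a cyclic invariant subgroup of the quotient by the four group. -/
theorem exists_U {E : Subgroup G} {e : G} (hES : E ≤ S) (heE : e ∈ E) (hEW : ∀ w ∈ W, ∀ x ∈ E, w * x * w⁻¹ ∈ E)
    (hzE : i * i ∈ E) (hiE : i ∉ E) (hee : e * e = 1) (hez : e * (i * i) = i * i * e)
    (hall : ∀ d ∈ E, d = 1 ∨ d = i * i ∨ d = e ∨ d = e * (i * i)) (hte : t * e * t⁻¹ = e * (i * i))
    (hzt : t * (i * i) * t⁻¹ = i * i) :
    ∃ U : Subgroup G, U ≤ S ∧ E ≤ U ∧ i ∈ U ∧ (∀ w ∈ W, ∀ x ∈ U, w * x * w⁻¹ ∈ U) ∧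
      (∀ x ∈ S, ∀ y ∈ S, x ∉ U → y ∉ U → x * y ∈ U) ∧
      (∃ a ∈ U, ∀ u ∈ U, ∃ n : ℤ, (a ^ n)⁻¹ * u ∈ E) ∧
      (∀ f ∈ S, f ∉ U → ∀ u ∈ U, ∃ n : ℤ, ((t * f * t⁻¹ * f⁻¹) ^ n)⁻¹ * u ∈ E) ∧
      (∀ x ∈ S, x ∉ U → ∀ u ∈ U, x * u = u * x → u * u ∈ E) := by
  classical
  have hEle : E ≤ W := hES.trans h.SW
  haveI : (E.subgroupOf W).Normal := ⟨fun x hx g => hEW g g.2 x hx⟩
  haveI : (S.subgroupOf W).Normal := ⟨fun x hx g => h.conj_mem g.2 hx⟩
  obtain ⟨π, hπ⟩ : ∃ π, π = QuotientGroup.mk' (E.subgroupOf W) := ⟨_, rfl⟩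
  have hπs : Function.Surjective π := hπ ▸ QuotientGroup.mk'_surjective _
  have hπ1 : ∀ x : ↥W, π x = 1 ↔ (x : G) ∈ E := fun x => by
    rw [hπ, QuotientGroup.mk'_apply, QuotientGroup.eq_one_iff, Subgroup.mem_subgroupOf]
  have hπS : ∀ x : ↥W, π x ∈ (S.subgroupOf W).map π → (x : G) ∈ S := by
    rintro x ⟨y, hy, hyx⟩
    have h1 : π (y⁻¹ * x) = 1 := by rw [map_mul, map_inv, hyx, inv_mul_cancel]
    have h2 := hES ((hπ1 _).1 h1)
    have := mul_mem (show (y : G) ∈ S from hy) h2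
    rwa [Subgroup.coe_mul, Subgroup.coe_inv, mul_inv_cancel_left] at this
  haveI : ((S.subgroupOf W).map π).Normal := Subgroup.Normal.map inferInstance _ hπs
  obtain ⟨τ, hτ⟩ : ∃ τ, τ = π ⟨t, h.tW⟩ := ⟨_, rfl⟩
  obtain ⟨ι, hι⟩ : ∃ ι, ι = π ⟨i, h.SW h.iS⟩ := ⟨_, rfl⟩
  have hι1 : ι ≠ 1 := fun e' => hiE ((hπ1 _).1 (hι ▸ e'))
  have hιι : ι * ι = 1 := by rw [hι, ← map_mul]; exact (hπ1 _).2 hzE
  have hfix : ∀ x ∈ (S.subgroupOf W).map π, τ * x * τ⁻¹ = x → x = 1 ∨ x = ι := by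
    intro x hx hxt
    obtain ⟨x, rfl⟩ := hπs x
    have hxS := hπS x hx
    have hd : (x : G)⁻¹ * (t * x * t⁻¹) ∈ E := by
      refine (hπ1 (x⁻¹ * (⟨t, h.tW⟩ * x * ⟨t, h.tW⟩⁻¹))).1 ?_
      rw [map_mul, map_mul, map_mul, map_inv, map_inv, ← hτ, hxt, inv_mul_cancel]
    have hpow : ∀ y : ↥W, (y : G) ∈ Subgroup.zpowers i → π y = 1 ∨ π y = ι := by
      intro y hy
      obtain ⟨n, hn⟩ := Subgroup.mem_zpowers_iff.1 hy
      rw [show y = (⟨i, h.SW h.iS⟩ : ↥W) ^ n from Subtype.ext hn.symm, map_zpow, ← hι]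
      exact sq_one_cases (Subgroup.isCyclic_zpowers ι) (Subgroup.mem_zpowers ι)
        (Subgroup.zpow_mem _ (Subgroup.mem_zpowers ι) n) hιι hι1
        (by rw [← (Commute.refl ι).mul_zpow, hιι, one_zpow])
    rcases h.moved hee hez hall hte hzt (hES heE) hxS hd with h1 | h1
    · exact hpow x h1
    · have h2 := hpow (x * ⟨e, hEle heE⟩) h1
      rwa [map_mul, (hπ1 ⟨e, hEle heE⟩).2 heE, mul_one] at h2
  obtain ⟨C, hCn, hCS, hCc, hιC, hprod, hinv⟩ := exists_cyclic_fix (h.hW.to_quotient (E.subgroupOf W))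
    ((S.subgroupOf W).map π) (τ := τ) (ι := ι)
    (by rw [hτ, ← map_mul, show (⟨t, h.tW⟩ : ↥W) * ⟨t, h.tW⟩ = 1 from Subtype.ext h.tt, map_one])
    (hι ▸ Subgroup.mem_map_of_mem _ h.iS) hι1 hιι hfix
  haveI := hCn
  haveI := hCc
  obtain ⟨U, hU⟩ : ∃ U, U = (C.comap π).map W.subtype := ⟨_, rfl⟩
  have hmemU : ∀ x : ↥W, (x : G) ∈ U ↔ π x ∈ C := fun x => by
    rw [hU]
    exact ⟨fun ⟨y, hy, hyx⟩ => (Subtype.ext hyx : y = x) ▸ hy, fun hx => ⟨x, hx, rfl⟩⟩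
  have hUW : U ≤ W := hU ▸ Subgroup.map_subtype_le _
  have hUS : U ≤ S := fun x hx => hπS ⟨x, hUW hx⟩ (hCS ((hmemU ⟨x, hUW hx⟩).1 hx))
  have hEU : E ≤ U := fun x hx => (hmemU ⟨x, hEle hx⟩).2 (by rw [(hπ1 ⟨x, hEle hx⟩).2 hx]; exact one_mem C)
  refine ⟨U, hUS, hEU, (hmemU ⟨i, h.SW h.iS⟩).2 (hι ▸ hιC), ?_, ?_, ?_, ?_, ?_⟩
  · intro w hw x hx
    refine (hmemU (⟨w, hw⟩ * ⟨x, hUW hx⟩ * ⟨w, hw⟩⁻¹)).2 ?_
    rw [map_mul, map_mul, map_inv]
    exact hCn.conj_mem _ ((hmemU ⟨x, hUW hx⟩).1 hx) _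
  · intro x hx y hy hxU hyU
    refine (hmemU (⟨x, h.SW hx⟩ * ⟨y, h.SW hy⟩)).2 ?_
    rw [map_mul]
    exact hprod _ (Subgroup.mem_map_of_mem _ hx) _ (Subgroup.mem_map_of_mem _ hy)
      (fun e' => hxU ((hmemU _).2 e')) (fun e' => hyU ((hmemU _).2 e'))
  · obtain ⟨⟨b, hb⟩, hgen⟩ := hCc.exists_generator
    obtain ⟨a, rfl⟩ := hπs b
    refine ⟨a, (hmemU a).2 hb, fun u hu => ?_⟩
    obtain ⟨n, hn⟩ := Subgroup.mem_zpowers_iff.1 (hgen ⟨π ⟨u, hUW hu⟩, (hmemU _).1 hu⟩)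
    refine ⟨n, (hπ1 ((a ^ n)⁻¹ * ⟨u, hUW hu⟩)).1 ?_⟩
    have hn' : π a ^ n = π ⟨u, hUW hu⟩ := congrArg Subtype.val hn
    rw [map_mul, map_inv, map_zpow, hn', inv_mul_cancel]
  · intro f hf hfU u hu
    letI : CommGroup ↥C := IsCyclic.commGroup
    obtain ⟨fb, hfb⟩ : ∃ fb, fb = π ⟨f, h.SW hf⟩ := ⟨_, rfl⟩
    have hfC : fb ∉ C := fun e' => hfU ((hmemU ⟨f, h.SW hf⟩).2 (hfb ▸ e'))
    obtain ⟨gw, hgw⟩ : ∃ gw : ↥W, gw = ⟨t, h.tW⟩ * ⟨f, h.SW hf⟩ * ⟨t, h.tW⟩⁻¹ * ⟨f, h.SW hf⟩⁻¹ := ⟨_, rfl⟩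
    have hgC : π gw ∈ C := by
      rw [hgw, map_mul, map_mul, map_mul, map_inv, map_inv, ← hτ, ← hfb]
      refine hprod _ ?_ _ ?_ ?_ fun e' => hfC (by simpa using inv_mem e')
      · exact (inferInstance : ((S.subgroupOf W).map π).Normal).conj_mem _
          (hfb ▸ Subgroup.mem_map_of_mem _ hf) τ
      · exact inv_mem (hfb ▸ Subgroup.mem_map_of_mem _ hf)
      · intro e'
        have := hCn.conj_mem _ e' τ⁻¹
        rw [show τ⁻¹ * (τ * fb * τ⁻¹) * τ⁻¹⁻¹ = fb by group] at this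
        exact hfC this
    let φ : ↥C →* ↥C :=
      { toFun := fun b => ⟨τ * (b : ↥W ⧸ E.subgroupOf W) * τ⁻¹, hCn.conj_mem b b.2 τ⟩ * b⁻¹
        map_one' := Subtype.ext (by show τ * 1 * τ⁻¹ * 1⁻¹ = 1; group)
        map_mul' := fun p q => by
          have e' : (⟨τ * ((p * q : ↥C) : ↥W ⧸ E.subgroupOf W) * τ⁻¹, hCn.conj_mem _ (p * q).2 τ⟩ : ↥C) =
              ⟨τ * (p : ↥W ⧸ E.subgroupOf W) * τ⁻¹, hCn.conj_mem p p.2 τ⟩ * ⟨τ * (q : ↥W ⧸ E.subgroupOf W) * τ⁻¹, hCn.conj_mem q q.2 τ⟩ :=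
            Subtype.ext (by show τ * ((p : ↥W ⧸ E.subgroupOf W) * q) * τ⁻¹ = _ * _; simp [mul_assoc])
          simp only [e', mul_inv]
          ac_rfl }
    have hker : Nat.card φ.ker ≤ 2 := by
      rw [← Nat.card_fin 2]
      refine Nat.card_le_card_of_injective (fun x : φ.ker => if x = 1 then (0 : Fin 2) else 1) fun p q hpq => ?_
      have hval : ∀ r : φ.ker, r ≠ 1 → ((r : ↥C) : ↥W ⧸ E.subgroupOf W) = ι := fun r hr =>
        (hfix _ (hCS r.1.2) (mul_inv_eq_one.1 (congrArg Subtype.val r.2))).resolve_left fun e' =>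
          hr (Subtype.ext (Subtype.ext e'))
      by_cases hp : p = 1 <;> by_cases hq : q = 1 <;> simp [hp, hq] at hpq
      · rw [hp, hq]
      · exact Subtype.ext (Subtype.ext ((hval p hp).trans (hval q hq).symm))
    have hidx : φ.range.index ≤ 2 := by
      have h1 := φ.range.card_mul_index
      have h2 := Subgroup.card_eq_card_quotient_mul_card_subgroup φ.ker
      rw [Nat.card_congr (QuotientGroup.quotientKerEquivRange φ).toEquiv] at h2
      rw [h2] at h1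
      exact (Nat.eq_of_mul_eq_mul_left Nat.card_pos h1).trans_le hker
    have hsqmem : ∀ b : ↥C, b ^ 2 ∈ φ.range := fun b => by
      rcases Nat.lt_or_eq_of_le hidx with hlt | heq
      · have h1 : φ.range.index = 1 := by have := φ.range.index_ne_zero_of_finite; omega
        rw [Subgroup.index_eq_one.1 h1]
        exact Subgroup.mem_top _
      · exact Subgroup.sq_mem_of_index_two heq _
    have hnot : (⟨π gw, hgC⟩ : ↥C) ∉ φ.range := by
      rintro ⟨b, hb⟩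
      have hb' : τ * (b : ↥W ⧸ E.subgroupOf W) * τ⁻¹ * (b : ↥W ⧸ E.subgroupOf W)⁻¹ = π gw := congrArg Subtype.val hb
      refine hfC ?_
      have hbS : (b : ↥W ⧸ E.subgroupOf W)⁻¹ * fb ∈ (S.subgroupOf W).map π :=
        mul_mem (inv_mem (hCS b.2)) (hfb ▸ Subgroup.mem_map_of_mem _ hf)
      have hbt : τ * ((b : ↥W ⧸ E.subgroupOf W)⁻¹ * fb) * τ⁻¹ = (b : ↥W ⧸ E.subgroupOf W)⁻¹ * fb := by
        have hc : (τ * (b : ↥W ⧸ E.subgroupOf W) * τ⁻¹)⁻¹ * (τ * (b : ↥W ⧸ E.subgroupOf W) * τ⁻¹ * (b : ↥W ⧸ E.subgroupOf W)⁻¹) = (b : ↥W ⧸ E.subgroupOf W)⁻¹ := by group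
        have hgf : π gw * fb = τ * fb * τ⁻¹ := by
          rw [hgw, map_mul, map_mul, map_mul, map_inv, map_inv, ← hτ, ← hfb]; group
        rw [show τ * ((b : ↥W ⧸ E.subgroupOf W)⁻¹ * fb) * τ⁻¹ = (τ * (b : ↥W ⧸ E.subgroupOf W) * τ⁻¹)⁻¹ * (τ * fb * τ⁻¹) by group, ← hgf,
          ← mul_assoc, ← hb', hc]
      have hbb : (b : ↥W ⧸ E.subgroupOf W)⁻¹ * fb ∈ C := by
        rcases hfix _ hbS hbt with e' | e'
        · rw [e']; exact one_mem C
        · rw [e']; exact hιC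
      simpa using mul_mem b.2 hbb
    obtain ⟨b, hgen⟩ := hCc.exists_generator
    obtain ⟨n, hn⟩ := Subgroup.mem_zpowers_iff.1 (hgen ⟨π gw, hgC⟩)
    rcases Int.even_or_odd n with ⟨q, hq⟩ | ⟨q, hq⟩
    · refine absurd ?_ hnot
      rw [← hn, hq, zpow_add, ← pow_two]
      exact hsqmem _
    · obtain ⟨k, hk⟩ := IsPGroup.iff_orderOf.1 (((h.hW.to_quotient (E.subgroupOf W))).to_subgroup C) b
      obtain ⟨x, y, hxy⟩ : IsCoprime n ((2 : ℤ) ^ k) := IsCoprime.pow_right ⟨1, -q, by rw [hq]; ring⟩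
      obtain ⟨l, hl⟩ := Subgroup.mem_zpowers_iff.1 (hgen ⟨π ⟨u, hUW hu⟩, (hmemU _).1 hu⟩)
      have hbk : b ^ ((2 : ℤ) ^ k) = 1 := by
        rw [show ((2 : ℤ) ^ k) = ((2 ^ k : ℕ) : ℤ) by push_cast; rfl, zpow_natCast, ← hk, pow_orderOf_eq_one]
      refine ⟨x * l, ?_⟩
      have e' : (((gw ^ (x * l))⁻¹ * ⟨u, hUW hu⟩ : ↥W) : G) ∈ E := by
        refine (hπ1 ((gw ^ (x * l))⁻¹ * ⟨u, hUW hu⟩)).1 ?_
        have e1 : (⟨π gw, hgC⟩ : ↥C) ^ (x * l) = ⟨π ⟨u, hUW hu⟩, (hmemU _).1 hu⟩ := by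
          have hb1 : b = (⟨π gw, hgC⟩ : ↥C) ^ x := by
            rw [← hn, ← zpow_mul]
            nth_rewrite 1 [← zpow_one b]
            rw [← hxy, zpow_add, mul_comm y, zpow_mul b ((2 : ℤ) ^ k), hbk, one_zpow, mul_one, mul_comm x n]
          rw [zpow_mul, ← hb1, hl]
        have e2 : π gw ^ (x * l) = π ⟨u, hUW hu⟩ := congrArg Subtype.val e1
        rw [map_mul, map_inv, map_zpow, e2, inv_mul_cancel]
      rw [hgw] at e'
      exact e'
  · intro x hx hxU u hu hxu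
    by_contra hne
    obtain ⟨ub, hub⟩ : ∃ ub, ub = π ⟨u, hUW hu⟩ := ⟨_, rfl⟩
    have hubC : ub ∈ C := hub ▸ (hmemU ⟨u, hUW hu⟩).1 hu
    have hub2 : ub * ub ≠ 1 := fun e' => hne ((hπ1 (⟨u, hUW hu⟩ * ⟨u, hUW hu⟩)).1 (by rw [map_mul, ← hub, e']))
    obtain ⟨k, hk⟩ := IsPGroup.iff_orderOf.1 (h.hW.to_quotient (E.subgroupOf W)) ub
    have h4 : 4 ∣ orderOf ub := by
      rcases k with _ | _ | k
      · have h1 : ub = 1 := orderOf_eq_one_iff.1 (by simpa using hk)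
        exact absurd (by rw [h1, one_mul]) hub2
      · exact absurd (by rw [← pow_two]; have := pow_orderOf_eq_one ub; rwa [hk] at this) hub2
      · exact hk ▸ ⟨2 ^ k, by ring⟩
    have hj4 : orderOf (ub ^ (orderOf ub / 4)) = 4 := orderOf_pow_orderOf_div (orderOf_pos ub).ne' h4
    have hxb : π ⟨x, h.SW hx⟩ * ub = ub * π ⟨x, h.SW hx⟩ := by
      rw [hub, ← map_mul, ← map_mul, show (⟨x, h.SW hx⟩ : ↥W) * ⟨u, hUW hu⟩ = ⟨u, hUW hu⟩ * ⟨x, h.SW hx⟩ from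
        Subtype.ext hxu]
    have e1 := hinv _ (C.pow_mem hubC _) hj4 _ (Subgroup.mem_map_of_mem π (show (⟨x, h.SW hx⟩ : ↥W) ∈ S.subgroupOf W from hx))
      (fun e' => hxU ((hmemU ⟨x, h.SW hx⟩).2 e'))
    rw [((show Commute (π ⟨x, h.SW hx⟩) ub from hxb).pow_right _).eq, mul_inv_cancel_right, eq_inv_iff_mul_eq_one,
      ← pow_two] at e1
    have := orderOf_dvd_of_pow_eq_one e1
    rw [hj4] at this
    norm_num at this

/-- Case of a four group not centralized by `i`. -/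
theorem four_false_noncomm {E : Subgroup G} {e : G} (hES : E ≤ S) (heE : e ∈ E)
    (hEW : ∀ w ∈ W, ∀ x ∈ E, w * x * w⁻¹ ∈ E) (hzE : i * i ∈ E) (hzW : ∀ w ∈ W, w * (i * i) * w⁻¹ = i * i)
    (hee : e * e = 1) (he1 : e ≠ 1) (hez1 : e ≠ i * i) (hez : e * (i * i) = i * i * e)
    (hall : ∀ d ∈ E, d = 1 ∨ d = i * i ∨ d = e ∨ d = e * (i * i)) (hte : t * e * t⁻¹ = e * (i * i))
    (hconj : ∀ w ∈ W, w * e * w⁻¹ = e ∨ w * e * w⁻¹ = e * (i * i)) (hie : i * e ≠ e * i) : False := by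
  classical
  have hiW := h.SW h.iS
  have hEle : E ≤ W := hES.trans h.SW
  have hie' : i * e * i⁻¹ = e * (i * i) := (hconj i hiW).resolve_left fun e' => hie (mul_inv_eq_iff_eq_mul.1 e')
  haveI : (E.subgroupOf W).Normal := ⟨fun x hx g => hEW g g.2 x hx⟩
  haveI : (S.subgroupOf W).Normal := ⟨fun x hx g => h.conj_mem g.2 hx⟩
  have hcent : ∀ x ∈ S, x * e = e * x → x ∈ E := by
    intro x hx hxe
    refine cent_four (E := E.subgroupOf W) (S := S.subgroupOf W) h.hW (τ := ⟨t, h.tW⟩)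
      (ι := ⟨i * i, hEle hzE⟩) (e := ⟨e, hEle heE⟩) (Subtype.ext h.tt) hzE heE (fun e' => h.z_ne (congrArg Subtype.val e'))
      (Subtype.ext h.z_sq) (fun g => Subtype.ext (hzW g g.2)) (Subtype.ext hee) (Subtype.ext hte) ?_ ?_
      ⟨x, h.SW hx⟩ hx (Subtype.ext hxe)
    · intro d hd
      rcases hall d hd with e' | e' | e' | e'
      · exact Or.inl (Subtype.ext e')
      · exact Or.inr (Or.inl (Subtype.ext e'))
      · exact Or.inr (Or.inr (Or.inl (Subtype.ext e')))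
      · exact Or.inr (Or.inr (Or.inr (Subtype.ext e')))
    · intro y hy hye hfix
      have hye' : (y : G) * e = e * y := congrArg Subtype.val hye
      have key : ∀ w : G, w ∈ Subgroup.zpowers i → w * e = e * w → w ∈ E := by
        intro w hw hwe
        rcases h.zp_cases hw with rfl | rfl | rfl | rfl
        · exact one_mem E
        · exact absurd hwe hie
        · exact hzE
        · refine absurd ?_ hie
          rw [mul_assoc (i * i) i e] at hwe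
          have e2 : i * i * (i * e) = i * i * (e * i) := by
            rw [hwe, ← mul_assoc e, hez, mul_assoc]
          exact mul_left_cancel e2
      rcases hfix with e' | e'
      · exact key _ (h.fix _ hy (congrArg Subtype.val e')) hye'
      · have hm : ((y : G) * e) ∈ E := key _ (h.fix _ (mul_mem hy (hES heE)) (congrArg Subtype.val e'))
          (by rw [hye', mul_assoc, hye'])
        have := mul_mem hm heE
        rw [mul_assoc, hee, mul_one] at this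
        exact this
  have hzC : i * i ∈ Subgroup.zpowers i := mul_mem (Subgroup.mem_zpowers i) (Subgroup.mem_zpowers i)
  have hi4 : i⁻¹ = i * i * i := inv_eq_of_mul_eq_one_right (by
    rw [show i * (i * i * i) = i * i * (i * i) by group, h.z_sq])
  have hdec : ∀ x ∈ S, x ∈ Subgroup.zpowers i ∨ ∃ c ∈ Subgroup.zpowers i, x = c * e := by
    intro x hx
    have hE' : ∀ d ∈ E, ∀ c ∈ Subgroup.zpowers i, c * d ∈ Subgroup.zpowers i ∨
        ∃ c' ∈ Subgroup.zpowers i, c * d = c' * e := fun d hd c hc => by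
      rcases hall d hd with rfl | rfl | rfl | rfl
      · exact Or.inl (by rwa [mul_one])
      · exact Or.inl (mul_mem hc hzC)
      · exact Or.inr ⟨c, hc, rfl⟩
      · exact Or.inr ⟨c * (i * i), mul_mem hc hzC, by rw [hez, ← mul_assoc]⟩
    rcases hconj x (h.SW hx) with e' | e'
    · have := hE' x (hcent x hx (mul_inv_eq_iff_eq_mul.1 e')) 1 (one_mem _)
      rwa [one_mul] at this
    · have hd : i⁻¹ * x ∈ E := hcent _ (mul_mem (inv_mem h.iS) hx) (mul_inv_eq_iff_eq_mul.1 (by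
        rw [show i⁻¹ * x * e * (i⁻¹ * x)⁻¹ = i⁻¹ * (x * e * x⁻¹) * i by group, e', ← hie']; group))
      have := hE' _ hd i (Subgroup.mem_zpowers i)
      rwa [mul_inv_cancel_left] at this
  have heinv : e * i * e⁻¹ = i⁻¹ := by
    rw [inv_eq_of_mul_eq_one_right hee]
    have e1 : i * e = e * (i * i) * i := mul_inv_eq_iff_eq_mul.1 hie'
    rw [mul_assoc, e1, ← mul_assoc, ← mul_assoc, hee, one_mul, hi4]
  have hinvC : ∀ c ∈ Subgroup.zpowers i, e * c * e⁻¹ = c⁻¹ := fun c hc => by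
    obtain ⟨n, rfl⟩ := Subgroup.mem_zpowers_iff.1 hc
    rw [← conj_zpow, heinv, inv_zpow]
  have hsq : ∀ c ∈ Subgroup.zpowers i, c * e * (c * e) = 1 := fun c hc => by
    rw [show c * e * (c * e) = c * (e * c * e⁻¹) * (e * e) by group, hinvC c hc, hee, mul_inv_cancel, one_mul]
  refine h.frame_false (C := Subgroup.zpowers i) (j := i) (s := e) (Subgroup.zpowers_le.2 h.iS)
    (Subgroup.isCyclic_zpowers i) ?_ (Subgroup.mem_zpowers i) h.io (hES heE) ?_ hee heinv ?_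
  · intro w hw c hc
    obtain ⟨n, rfl⟩ := Subgroup.mem_zpowers_iff.1 hc
    rw [← conj_zpow]
    refine Subgroup.zpow_mem _ ?_ n
    rcases hdec _ (h.conj_mem hw h.iS) with e' | ⟨c', hc', e'⟩
    · exact e'
    · refine absurd ?_ h.z_ne
      rw [← hzW w hw, show w * (i * i) * w⁻¹ = w * i * w⁻¹ * (w * i * w⁻¹) by group, e', hsq c' hc']
  · intro he
    rcases sq_one_cases (Subgroup.isCyclic_zpowers i) hzC he h.z_sq h.z_ne hee with e' | e'
    · exact he1 e'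
    · exact hez1 e'
  · intro x hx y hy hxC hyC
    obtain ⟨c, hc, rfl⟩ := (hdec x hx).resolve_left hxC
    obtain ⟨d, hd, rfl⟩ := (hdec y hy).resolve_left hyC
    rw [show c * e * (d * e) = c * (e * d * e⁻¹) * (e * e) by group, hinvC d hd, hee, mul_one]
    exact mul_mem hc (inv_mem hd)

end Ctx

end Cfsg.Agent.Fusion.RankOne
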