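import Cfsg.Agent.Lib.Fusion.RankOne.FourCase

/-!
An involution acting on a perfect group with centraliser having cyclic Sylow 2-subgroups of order four: the case of an
invariant four group centralized by the fixed element of order four.
-/

set_option autoImplicit false
set_option linter.style.haveILetI false

namespace Cfsg.Agent.Fusion.RankOne

variable {G : Type*} [Group G] [Finite G]

/-- The element `i` of order four modulo the four group gives `z` as a power of a generator. -/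
theorem gen_facts {E : Subgroup G} {i a e : G} {k : ℤ} (hk : (a ^ k)⁻¹ * i ∈ E)
    (hiE : ∀ p ∈ E, i * p = p * i) (hsq : ∀ p ∈ E, p * p = 1) (hee : e * e = 1) (he1 : e ≠ 1)
    (hez : e ≠ i * i) (hzz : i * i * (i * i) = 1) (hz1 : i * i ≠ 1) :
    i * i ∈ Subgroup.zpowers a ∧ e ∉ Subgroup.zpowers a ∧ a * a ≠ 1 := by
  obtain ⟨p, hp⟩ : ∃ p, p = (a ^ k)⁻¹ * i := ⟨_, rfl⟩
  rw [← hp] at hk
  have hak : a ^ k = i * p⁻¹ := by rw [hp]; group
  have hp' : p⁻¹ = p := inv_eq_of_mul_eq_one_right (hsq p hk)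
  have hkk : a ^ k * a ^ k = i * i := by
    rw [hak, hp', show i * p * (i * p) = i * (p * i) * p by group, ← hiE p hk,
      show i * (i * p) * p = i * i * (p * p) by group, hsq p hk, mul_one]
  have hz : i * i ∈ Subgroup.zpowers a :=
    hkk ▸ mul_mem (Subgroup.zpow_mem _ (Subgroup.mem_zpowers a) k) (Subgroup.zpow_mem _ (Subgroup.mem_zpowers a) k)
  refine ⟨hz, fun he => ?_, fun ha => hz1 ?_⟩
  · rcases sq_one_cases (Subgroup.isCyclic_zpowers a) hz he hzz hz1 hee with e' | e'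
    · exact he1 e'
    · exact hez e'
  · rw [← hkk, ← (Commute.refl a).mul_zpow, ha, one_zpow]

namespace Ctx

variable {A W S : Subgroup G} {t i : G} (h : Ctx A W S t i)
include h

/-- Case of a four group centralized by `i`. -/
theorem four_false_comm {E : Subgroup G} {e : G} (hES : E ≤ S) (heE : e ∈ E)
    (hEW : ∀ w ∈ W, ∀ x ∈ E, w * x * w⁻¹ ∈ E) (hzE : i * i ∈ E) (hzW : ∀ w ∈ W, w * (i * i) * w⁻¹ = i * i)
    (hee : e * e = 1) (he1 : e ≠ 1) (hez1 : e ≠ i * i) (hez : e * (i * i) = i * i * e)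
    (hall : ∀ d ∈ E, d = 1 ∨ d = i * i ∨ d = e ∨ d = e * (i * i)) (hte : t * e * t⁻¹ = e * (i * i))
    (hconj : ∀ w ∈ W, w * e * w⁻¹ = e ∨ w * e * w⁻¹ = e * (i * i)) (hie : i * e = e * i) : False := by
  classical
  have hiW := h.SW h.iS
  have heS := hES heE
  obtain ⟨z, hz⟩ : ∃ z, z = i * i := ⟨_, rfl⟩
  have hzz : z * z = 1 := hz ▸ h.z_sq
  have hz1 : z ≠ 1 := hz ▸ h.z_ne
  have hzc : ∀ w ∈ W, w * z = z * w := fun w hw => hz ▸ mul_inv_eq_iff_eq_mul.1 (hzW w hw)
  have hsqE : ∀ p ∈ E, p * p = 1 := fun p hp => by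
    rcases hall p hp with rfl | rfl | rfl | rfl
    · exact one_mul 1
    · exact h.z_sq
    · exact hee
    · calc e * (i * i) * (e * (i * i)) = e * (i * i * e) * (i * i) := by group
        _ = e * e * (i * i * (i * i)) := by rw [← hez]; group
        _ = 1 := by rw [hee, h.z_sq, one_mul]
  have hiE' : ∀ p ∈ E, i * p = p * i := fun p hp => by
    rcases hall p hp with rfl | rfl | rfl | rfl
    · rw [mul_one, one_mul]
    · group
    · exact hie
    · rw [← mul_assoc, hie, mul_assoc, mul_assoc]; congr 1; group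
  have hiE : i ∉ E := fun hi => h.z_ne (hsqE i hi)
  obtain ⟨U, hUS, hEU, hiU, hUW, hUprod, hUgen, hUf, hUinv⟩ :=
    h.exists_U hES heE hEW hzE hiE hee hez hall hte (hzW t h.tW)
  -- elements of `E` in terms of `e`
  have hEe : ∀ (C : Subgroup G), z ∈ C → ∀ p ∈ E, p ∈ C ∨ ∃ d ∈ C, p = d * e := fun C hzC p hp => by
    rcases hall p hp with rfl | rfl | rfl | rfl
    · exact Or.inl (one_mem C)
    · exact Or.inl (hz ▸ hzC)
    · exact Or.inr ⟨1, one_mem C, (one_mul _).symm⟩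
    · exact Or.inr ⟨z, hzC, by rw [hz, hez]⟩
  by_cases hSU : ∀ x ∈ S, x ∈ U
  · -- `S` is cyclic modulo the four group
    obtain ⟨a, haU, hgen⟩ := hUgen
    obtain ⟨k, hk⟩ := hgen i hiU
    obtain ⟨hzC, heC, -⟩ := gen_facts hk hiE' hsqE hee he1 hez1 h.z_sq h.z_ne
    rw [← hz] at hzC
    obtain ⟨C, hC⟩ : ∃ C, C = Subgroup.zpowers a := ⟨_, rfl⟩
    rw [← hC] at hzC heC
    have hCS : C ≤ S := hC ▸ Subgroup.zpowers_le.2 (hUS haU)
    have hdec : ∀ x ∈ S, x ∈ C ∨ ∃ c ∈ C, x = c * e := by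
      intro x hx
      obtain ⟨n, hn⟩ := hgen x (hSU x hx)
      have hc : a ^ n ∈ C := hC ▸ ⟨n, rfl⟩
      rcases hEe C hzC _ hn with e' | ⟨d, hd, e'⟩
      · left
        have := mul_mem hc e'
        rwa [mul_inv_cancel_left] at this
      · exact Or.inr ⟨a ^ n * d, mul_mem hc hd, by rw [mul_assoc, ← e', mul_inv_cancel_left]⟩
    have hec : ∀ c ∈ C, e * c * e⁻¹ ∈ C := by
      intro c hc
      rw [hC] at hc
      obtain ⟨n, rfl⟩ := Subgroup.mem_zpowers_iff.1 hc
      rw [← conj_zpow]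
      refine Subgroup.zpow_mem _ ?_ n
      have haW := h.SW (hUS haU)
      have haC : a ∈ C := hC ▸ Subgroup.mem_zpowers a
      rcases hconj a haW with e' | e'
      · rw [← mul_inv_eq_iff_eq_mul.1 e', mul_inv_cancel_right]
        exact haC
      · have h2 : a * e = e * (i * i) * a := mul_inv_eq_iff_eq_mul.1 e'
        rw [← hz, mul_assoc e z a] at h2
        rw [inv_eq_of_mul_eq_one_right hee, show e * a * e = e * (a * e) by group, h2, ← mul_assoc, hee, one_mul]
        exact mul_mem hzC haC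
    have hprod : ∀ x ∈ S, ∀ y ∈ S, x ∉ C → y ∉ C → x * y ∈ C := by
      intro x hx y hy hxC hyC
      obtain ⟨c, hc, rfl⟩ := (hdec x hx).resolve_left hxC
      obtain ⟨d, hd, rfl⟩ := (hdec y hy).resolve_left hyC
      rw [show c * e * (d * e) = c * (e * d * e⁻¹) * (e * e) by group, hee, mul_one]
      exact mul_mem hc (hec d hd)
    have hCc : IsCyclic C := hC ▸ Subgroup.isCyclic_zpowers a
    have hCn : ∀ w ∈ S, ∀ x ∈ C, w * x * w⁻¹ ∈ C := by
      intro w hw x hx
      rcases hdec w hw with hwC | ⟨c, hc, rfl⟩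
      · exact mul_mem (mul_mem hwC hx) (inv_mem hwC)
      · rw [show c * e * x * (c * e)⁻¹ = c * (e * x * e⁻¹) * c⁻¹ by group]
        exact mul_mem (mul_mem hc (hec x hx)) (inv_mem hc)
    refine transfer_false h.perf h.sylS hCS hCc hCn hprod hzC hzz hz1 heS heC hee fun g hg => ?_
    refine not_fused h.sylS (fun x hx => hzc x (h.SW hx)) heS h.iS hz.symm hie hzz hz1 (hz ▸ hez1) ?_ hg
    intro x hx h4 h2
    have hx2 : x * x ∈ C := by
      by_cases hxC : x ∈ C
      · exact mul_mem hxC hxC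
      · exact hprod x hx x hx hxC hxC
    exact (sq_one_cases hCc hzC hx2 hzz hz1 h4).resolve_left h2
  push Not at hSU
  obtain ⟨f, hfS, hfU⟩ := hSU
  obtain ⟨a, ha⟩ : ∃ a, a = t * f * t⁻¹ * f⁻¹ := ⟨_, rfl⟩
  have hfW := h.SW hfS
  have hf' : f⁻¹ ∉ U := fun e' => hfU (by simpa using inv_mem e')
  have haU : a ∈ U := by
    rw [ha]
    refine hUprod _ (h.conj_mem h.tW hfS) _ (inv_mem hfS) (fun e' => hfU ?_) hf'
    have := hUW t⁻¹ (inv_mem h.tW) _ e'
    rwa [show t⁻¹ * (t * f * t⁻¹) * t⁻¹⁻¹ = f by group] at this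
  have hgen : ∀ u ∈ U, ∃ n : ℤ, (a ^ n)⁻¹ * u ∈ E := ha ▸ hUf f hfS hfU
  obtain ⟨k, hk⟩ := hgen i hiU
  obtain ⟨hzC, heC, ha2⟩ := gen_facts hk hiE' hsqE hee he1 hez1 h.z_sq h.z_ne
  rw [← hz] at hzC
  obtain ⟨C, hC⟩ : ∃ C, C = Subgroup.zpowers a := ⟨_, rfl⟩
  rw [← hC] at hzC heC
  have haC : a ∈ C := hC ▸ Subgroup.mem_zpowers a
  have hCU : C ≤ U := hC ▸ Subgroup.zpowers_le.2 haU
  have hCS : C ≤ S := hCU.trans hUS
  have hCc : IsCyclic C := hC ▸ Subgroup.isCyclic_zpowers a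
  have ht' : t⁻¹ = t := h.t_inv
  have htf : t * f * t⁻¹ = a * f := by rw [ha, inv_mul_cancel_right]
  have hta : t * a * t⁻¹ = a⁻¹ := by
    rw [ha, ht', show t * (t * f * t * f⁻¹) * t = t * t * f * t * f⁻¹ * t by group, h.tt,
      show (t * f * t * f⁻¹)⁻¹ = f * t⁻¹ * f⁻¹ * t⁻¹ by group, ht']
    group
  have hze : z * e = e * z := by rw [hz, ← hez]
  have hea : a * e = e * a := by
    refine mul_inv_eq_iff_eq_mul.1 ?_
    rw [ha, show t * f * t⁻¹ * f⁻¹ * e * (t * f * t⁻¹ * f⁻¹)⁻¹ =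
      t * (f * (t⁻¹ * (f⁻¹ * e * f⁻¹⁻¹) * t⁻¹⁻¹) * f⁻¹) * t⁻¹ by group]
    have hz' : ∀ w ∈ W, w * (e * z) * w⁻¹ = w * e * w⁻¹ * z := fun w hw => by
      rw [show w * (e * z) * w⁻¹ = w * e * w⁻¹ * (w * z * w⁻¹) by group, hzc w hw, mul_inv_cancel_right]
    have hswap : e * z * z = e := by rw [mul_assoc, hzz, mul_one]
    have hti : t⁻¹ * e * t⁻¹⁻¹ = e * z := by
      have h1 := hte
      rw [ht'] at h1
      rw [inv_inv, ht', h1, hz]
    have hte' : t * e * t⁻¹ = e * z := by rw [hte, hz]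
    rcases hconj f hfW with e' | e'
    · have e'' : f⁻¹ * e * f⁻¹⁻¹ = e := by
        rw [inv_inv]; nth_rewrite 1 [← e']; group
      rw [e'', hti, hz' f hfW, e', hz' t h.tW, hte', hswap]
    · rw [← hz] at e'
      have e'' : f⁻¹ * e * f⁻¹⁻¹ = e * z := by
        have := hz' f hfW
        rw [e', hswap] at this
        rw [inv_inv]; nth_rewrite 1 [← this]; group
      rw [e'', hz' t⁻¹ (inv_mem h.tW), hti, hswap, e', hz' t h.tW, hte', hswap]
  have hCe : ∀ c ∈ C, c * e = e * c := fun c hc => by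
    rw [hC] at hc
    obtain ⟨n, rfl⟩ := Subgroup.mem_zpowers_iff.1 hc
    exact ((show Commute e a from hea.symm).zpow_right n).eq.symm
  have hCcomm : ∀ c ∈ C, ∀ d ∈ C, c * d = d * c := fun c hc d hd => by
    rw [hC] at hc hd
    obtain ⟨n, rfl⟩ := Subgroup.mem_zpowers_iff.1 hc
    obtain ⟨m, rfl⟩ := Subgroup.mem_zpowers_iff.1 hd
    exact (Commute.zpow_zpow (Commute.refl a) n m).eq
  have hUdec : ∀ u ∈ U, u ∈ C ∨ ∃ c ∈ C, u = c * e := by
    intro u hu
    obtain ⟨n, hn⟩ := hgen u hu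
    have hc : a ^ n ∈ C := hC ▸ ⟨n, rfl⟩
    rcases hEe C hzC _ hn with e' | ⟨d, hd, e'⟩
    · left
      have := mul_mem hc e'
      rwa [mul_inv_cancel_left] at this
    · exact Or.inr ⟨a ^ n * d, mul_mem hc hd, by rw [mul_assoc, ← e', mul_inv_cancel_left]⟩
  have hUab : ∀ u ∈ U, ∀ v ∈ U, u * v = v * u := by
    intro u hu v hv
    rcases hUdec u hu with hu' | ⟨c, hc, rfl⟩ <;> rcases hUdec v hv with hv' | ⟨d, hd, rfl⟩
    · exact hCcomm u hu' v hv'
    · exact ((show Commute u d from hCcomm u hu' d hd).mul_right (hCe u hu')).eq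
    · exact ((show Commute c v from hCcomm c hc v hv').mul_left (hCe v hv').symm).eq
    · exact (((show Commute c d from hCcomm c hc d hd).mul_right (hCe c hc)).mul_left
        ((show Commute e d from (hCe d hd).symm).mul_right (Commute.refl e))).eq
  have hCinv : ∀ c ∈ C, t * c * t⁻¹ = c⁻¹ := fun c hc => by
    rw [hC] at hc
    obtain ⟨n, rfl⟩ := Subgroup.mem_zpowers_iff.1 hc
    rw [← conj_zpow, hta, inv_zpow]
  have hinvU : ∀ u ∈ U, t * u * t⁻¹ = u⁻¹ → u ∈ C := by
    intro u hu htu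
    refine (hUdec u hu).resolve_right ?_
    rintro ⟨c, hc, rfl⟩
    rw [show t * (c * e) * t⁻¹ = t * c * t⁻¹ * (t * e * t⁻¹) by group, hCinv c hc, hte, ← hz,
      (show (c * e)⁻¹ = c⁻¹ * e from by
        rw [hCe c hc, mul_inv_rev, inv_eq_of_mul_eq_one_right hee])] at htu
    exact hz1 (mul_eq_left.1 (mul_left_cancel htu))
  -- the conjugate of `a` by `f`
  obtain ⟨P, hP⟩ : ∃ P, P = f * a * f⁻¹ := ⟨_, rfl⟩
  have hPU : P ∈ U := hP ▸ hUW f hfW a haU
  have hPC : P ∈ C := by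
    refine hinvU P hPU ?_
    have e1 : t * P * t⁻¹ = t * f * t⁻¹ * (t * a * t⁻¹) * (t * f * t⁻¹)⁻¹ := by rw [hP]; group
    rw [e1, htf, hta, show a * f * a⁻¹ * (a * f)⁻¹ = a * (f * a * f⁻¹)⁻¹ * a⁻¹ by group, ← hP,
      hUab a haU _ (inv_mem hPU), mul_inv_cancel_right]
  have hfC : ∀ c ∈ C, f * c * f⁻¹ ∈ C := fun c hc => by
    rw [hC] at hc
    obtain ⟨n, rfl⟩ := Subgroup.mem_zpowers_iff.1 hc
    rw [← conj_zpow, ← hP]
    exact Subgroup.zpow_mem _ hPC n
  have hSdec : ∀ x ∈ S, x ∈ U ∨ x * f⁻¹ ∈ U := fun x hx => by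
    by_cases hxU : x ∈ U
    · exact Or.inl hxU
    · exact Or.inr (hUprod x hx _ (inv_mem hfS) hxU hf')
  have hCn : ∀ w ∈ S, ∀ c ∈ C, w * c * w⁻¹ ∈ C := by
    intro w hw c hc
    rcases hSdec w hw with hw' | hw'
    · rw [hUab w hw' c (hCU hc), mul_inv_cancel_right]; exact hc
    · rw [show w * c * w⁻¹ = w * f⁻¹ * (f * c * f⁻¹) * (w * f⁻¹)⁻¹ by group,
        hUab _ hw' _ (hCU (hfC c hc)), mul_inv_cancel_right]
      exact hfC c hc
  have hzS : ∀ x ∈ S, x * z = z * x := fun x hx => hzc x (h.SW hx)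
  have hef : f * e * f⁻¹ = e ∨ f * e * f⁻¹ = e * z := hz ▸ hconj f hfW
  by_cases hq : f * f ∈ C
  · -- all squares lie in `C`
    have hsqS : ∀ x ∈ S, x * x ∈ C := by
      intro x hx
      rcases hSdec x hx with hx' | hx'
      · rcases hUdec x hx' with hc | ⟨c, hc, rfl⟩
        · exact mul_mem hc hc
        · rw [show c * e * (c * e) = c * (e * c) * e by group, ← hCe c hc,
            show c * (c * e) * e = c * c * (e * e) by group, hee, mul_one]
          exact mul_mem hc hc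
      · have e0 : x = x * f⁻¹ * f := by rw [inv_mul_cancel_right]
        rcases hUdec _ hx' with hc | ⟨c, hc, e'⟩
        · rw [e0, show x * f⁻¹ * f * (x * f⁻¹ * f) = x * f⁻¹ * (f * (x * f⁻¹) * f⁻¹) * (f * f) by group]
          exact mul_mem (mul_mem hc (hfC _ hc)) hq
        · rw [e0, e', show c * e * f * (c * e * f) = c * (e * (f * c * f⁻¹)) * (f * e * f⁻¹) * (f * f) by group,
            ← hCe _ (hfC c hc), show c * (f * c * f⁻¹ * e) * (f * e * f⁻¹) * (f * f) =
              c * (f * c * f⁻¹) * (e * (f * e * f⁻¹)) * (f * f) by group]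
          refine mul_mem (mul_mem (mul_mem hc (hfC c hc)) ?_) hq
          rcases hef with e'' | e'' <;> rw [e'']
          · rw [hee]; exact one_mem C
          · rw [← mul_assoc, hee, one_mul]; exact hzC
    have hns : ∀ g ∈ A, g * e * g⁻¹ ≠ z := fun g hg =>
      not_fused h.sylS hzS heS h.iS hz.symm hie hzz hz1 (hz ▸ hez1)
        (fun x hx h4 h2 => (sq_one_cases hCc hzC (hsqS x hx) hzz hz1 h4).resolve_left h2) hg
    -- a representative of the outer coset
    obtain ⟨f₀, hf₀S, hf₀U, hf₀n⟩ : ∃ f₀ ∈ S, f₀ ∉ U ∧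
        ∀ c ∈ C, c * f₀ * (c * f₀) = 1 → (∀ x ∈ S, x * e = e * x) ∧ c * f₀ * a * (c * f₀)⁻¹ = a⁻¹ := by
      obtain ⟨q, hqdef⟩ : ∃ q, q = f * f := ⟨_, rfl⟩
      rw [← hqdef] at hq
      have hPq : P = a⁻¹ * q⁻¹ * q⁻¹ := by
        have e1 := hCinv q hq
        rw [hqdef, show t * (f * f) * t⁻¹ = t * f * t⁻¹ * (t * f * t⁻¹) by group, htf,
          show a * f * (a * f) = a * (f * a * f⁻¹) * (f * f) by group, ← hP, ← hqdef] at e1
        calc P = a⁻¹ * (a * P * q) * q⁻¹ := by group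
          _ = _ := by rw [e1]
      by_cases hq1 : q = 1 ∧ f * e ≠ e * f
      · obtain ⟨hq1, hfe⟩ := hq1
        rw [hq1, inv_one, mul_one, mul_one] at hPq
        have hfe' : f * e * f⁻¹ = e * z := hef.resolve_left fun e' => hfe (mul_inv_eq_iff_eq_mul.1 e')
        refine ⟨f * e, mul_mem hfS heS, fun e' => hfU ?_, fun c hc hcc => absurd ?_ hz1⟩
        · have := mul_mem e' (hEU heE)
          rwa [mul_assoc, hee, mul_one] at this
        · have h0 : f * e * (f * e) = z := by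
            rw [show f * e * (f * e) = f * e * f⁻¹ * (f * f) * e by group, hfe', ← hqdef, hq1, mul_one,
              mul_assoc, hze, ← mul_assoc, hee, one_mul]
          have h1 : (f * e) * c * (f * e)⁻¹ = c⁻¹ := by
            rw [show f * e * c * (f * e)⁻¹ = f * (e * c * e⁻¹) * f⁻¹ by group, ← hCe c hc, mul_inv_cancel_right]
            rw [hC] at hc
            obtain ⟨n, rfl⟩ := Subgroup.mem_zpowers_iff.1 hc
            rw [← conj_zpow, ← hP, hPq, inv_zpow]
          rw [show c * (f * e) * (c * (f * e)) = c * (f * e * c * (f * e)⁻¹) * (f * e * (f * e)) by group, h1, h0,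
            mul_inv_cancel, one_mul] at hcc
          exact hcc
      · refine ⟨f, hfS, hfU, fun c hc hcc => ?_⟩
        have hcq : q = 1 := by
          rw [hC] at hc
          obtain ⟨n, rfl⟩ := Subgroup.mem_zpowers_iff.1 hc
          rw [show a ^ n * f * (a ^ n * f) = a ^ n * (f * a ^ n * f⁻¹) * (f * f) by group, ← conj_zpow, ← hP, hPq,
            ← hqdef] at hcc
          have hc1 : Commute a⁻¹ q⁻¹ := (show Commute a q from (hCcomm a haC q hq)).inv_inv
          have hc2 : Commute (a⁻¹ * q⁻¹) q⁻¹ := hc1.mul_left (Commute.refl _)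
          rw [hc2.mul_zpow, hc1.mul_zpow, inv_zpow, ← mul_assoc, ← mul_assoc, mul_inv_cancel, one_mul] at hcc
          have e1 : q ^ (-n + -n + 1) = 1 := by rw [zpow_add, zpow_add, zpow_one, ← inv_zpow', hcc]
          obtain ⟨l, hl⟩ := IsPGroup.iff_orderOf.1 (h.hW.to_le (hCS.trans h.SW)) ⟨q, hq⟩
          rw [Subgroup.orderOf_mk] at hl
          have hdvd := orderOf_dvd_iff_zpow_eq_one.2 e1
          rw [hl] at hdvd
          rcases l with _ | l
          · exact orderOf_eq_one_iff.1 (by simpa using hl)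
          · exfalso
            obtain ⟨m, hm⟩ := hdvd
            rw [pow_succ] at hm
            push_cast at hm
            rw [mul_comm ((2 : ℤ) ^ l) 2, mul_assoc] at hm
            omega
        have hfe : f * e = e * f := by
          by_contra hne
          exact hq1 ⟨hcq, hne⟩
        rw [hcq, inv_one, mul_one, mul_one] at hPq
        refine ⟨fun x hx => ?_, ?_⟩
        · rcases hSdec x hx with hx' | hx'
          · exact hUab x hx' e (hEU heE)
          · rw [show x * e = x * f⁻¹ * (f * e) by group, hfe, ← mul_assoc, hUab _ hx' e (hEU heE), mul_assoc,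
              inv_mul_cancel_right]
        · rw [show c * f * a * (c * f)⁻¹ = c * (f * a * f⁻¹) * c⁻¹ by group, ← hP, hPq,
            hCcomm c hc _ (inv_mem haC), mul_inv_cancel_right]
    have hf₀2 : f₀ * f₀ ∈ C := hsqS _ hf₀S
    let T : Subgroup G :=
      { carrier := {x | x ∈ C ∨ x * f₀⁻¹ ∈ C}
        one_mem' := Or.inl (one_mem C)
        mul_mem' := by
          rintro x y (hx | hx) (hy | hy)
          · exact Or.inl (mul_mem hx hy)
          · exact Or.inr (by rw [mul_assoc]; exact mul_mem hx hy)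
          · refine Or.inr ?_
            rw [show x * y * f₀⁻¹ = x * f₀⁻¹ * (f₀ * y * f₀⁻¹) by group]
            exact mul_mem hx (hCn _ hf₀S _ hy)
          · refine Or.inl ?_
            rw [show x * y = x * f₀⁻¹ * (f₀ * (y * f₀⁻¹) * f₀⁻¹) * (f₀ * f₀) by group]
            exact mul_mem (mul_mem hx (hCn _ hf₀S _ hy)) hf₀2
        inv_mem' := by
          rintro x (hx | hx)
          · exact Or.inl (inv_mem hx)
          · refine Or.inr ?_
            rw [show x⁻¹ * f₀⁻¹ = f₀⁻¹ * (x * f₀⁻¹)⁻¹ * f₀⁻¹⁻¹ * (f₀ * f₀)⁻¹ by group]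
            exact mul_mem (hCn _ (inv_mem hf₀S) _ (inv_mem hx)) (inv_mem hf₀2) }
    have hf₀' : f₀⁻¹ ∉ U := fun e' => hf₀U (by simpa using inv_mem e')
    have hTS : T ≤ S := by
      rintro x (hx | hx)
      · exact hCS hx
      · have := mul_mem (hCS hx) hf₀S
        rwa [inv_mul_cancel_right] at this
    have hdec₀ : ∀ x ∈ S, x ∈ T ∨ e * x ∈ T := by
      intro x hx
      have key : ∀ u ∈ U, u ∈ C ∨ e * u ∈ C := fun u hu => (hUdec u hu).imp_right fun ⟨c, hc, e'⟩ => by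
        rw [e', hCe c hc, ← mul_assoc, hee, one_mul]; exact hc
      by_cases hxU : x ∈ U
      · exact (key x hxU).imp Or.inl Or.inl
      · refine (key _ (hUprod x hx _ (inv_mem hf₀S) hxU hf₀')).imp Or.inr fun e' => Or.inr ?_
        rw [mul_assoc]; exact e'
    have hef₀ : e * f₀ * e⁻¹ ∈ T := by
      refine Or.inr ?_
      rw [show e * f₀ * e⁻¹ * f₀⁻¹ = e * (f₀ * e * f₀⁻¹)⁻¹ by group]
      rcases hconj f₀ (h.SW hf₀S) with e' | e' <;> rw [e']
      · rw [mul_inv_cancel]; exact one_mem C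
      · rw [mul_inv_rev, inv_eq_of_mul_eq_one_right hee, ← hz, inv_eq_of_mul_eq_one_right hzz, hze, ← mul_assoc,
          hee, one_mul]
        exact hzC
    have hTn : ∀ w ∈ S, ∀ x ∈ T, w * x * w⁻¹ ∈ T := by
      have heT : ∀ x ∈ T, e * x * e⁻¹ ∈ T := by
        rintro x (hx | hx)
        · exact Or.inl (hCn e heS x hx)
        · rw [show e * x * e⁻¹ = e * (x * f₀⁻¹) * e⁻¹ * (e * f₀ * e⁻¹) by group]
          exact mul_mem (Or.inl (hCn e heS _ hx)) hef₀
      intro w hw x hx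
      rcases hdec₀ w hw with hw' | hw'
      · exact mul_mem (mul_mem hw' hx) (inv_mem hw')
      · rw [show w * x * w⁻¹ = e⁻¹ * (e * w * x * (e * w)⁻¹) * e⁻¹⁻¹ by group, inv_eq_of_mul_eq_one_right hee]
        exact heT _ (mul_mem (mul_mem hw' hx) (inv_mem hw'))
    have heT : e ∉ T := by
      rintro (hx | hx)
      · exact heC hx
      · refine hf₀U ?_
        have := mul_mem (inv_mem (hEU heE)) (hCU hx)
        rw [inv_mul_cancel_left] at this
        simpa using inv_mem this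
    obtain ⟨g, hg, hgT, hgc⟩ := extremal_in h.perf h.sylS hTS hTn heS (fun x hx => by
      rcases hdec₀ x hx with hx' | hx'
      · exact ⟨0, by rwa [zpow_zero, inv_one, one_mul]⟩
      · exact ⟨1, by rwa [zpow_one, inv_eq_of_mul_eq_one_right hee]⟩) heS hee heT
    obtain ⟨w, hw⟩ : ∃ w, w = g * e * g⁻¹ := ⟨_, rfl⟩
    have hww : w * w = 1 := by
      rw [hw, show g * e * g⁻¹ * (g * e * g⁻¹) = g * (e * e) * g⁻¹ by group, hee, mul_one, mul_inv_cancel]
    rcases (hw ▸ hgT : w ∈ T) with hwC | hwC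
    · rcases sq_one_cases hCc hzC hwC hzz hz1 hww with e' | e'
      · exact he1 (conj_eq_one_iff.1 (hw ▸ e'))
      · exact hns g hg (hw ▸ e')
    · obtain ⟨c, hc⟩ : ∃ c, c = w * f₀⁻¹ := ⟨_, rfl⟩
      have hwe : w = c * f₀ := by rw [hc, inv_mul_cancel_right]
      obtain ⟨hce, hca⟩ := hf₀n c (hc ▸ hwC) (hwe ▸ hww)
      have hcj : cj S g = S := cj_eq_of_cj_le fun y hy => by
        rw [mem_cj] at hy
        have := (hgc _ hy (hce _ hy)).1
        rwa [show g * (g⁻¹ * y * g) * g⁻¹ = y by group] at this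
      have haS' : g⁻¹ * a * g ∈ S := by
        rw [← mem_cj, hcj]; exact hCS haC
      have := (hgc _ haS' (hce _ haS')).2
      rw [show g * (g⁻¹ * a * g) * g⁻¹ = a by group, ← hw, hwe] at this
      have e1 : c * f₀ * a * (c * f₀)⁻¹ = a := by rw [← this, mul_inv_cancel_right]
      rw [hca] at e1
      exact ha2 (inv_eq_iff_mul_eq_one.1 e1)
  -- `S` is cyclic of order four modulo `C`
  have hffU : f * f ∈ U := hUprod f hfS f hfS hfU hfU
  obtain ⟨c₀, hc₀, hff⟩ := (hUdec _ hffU).resolve_left hq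
  have hgenS : ∀ x ∈ S, ∃ n : ℤ, (f ^ n)⁻¹ * x ∈ C := by
    have key : ∀ u ∈ U, ∃ n : ℤ, (f ^ n)⁻¹ * u ∈ C := by
      intro u hu
      rcases hUdec u hu with hu' | ⟨c, hc, rfl⟩
      · exact ⟨0, by rwa [zpow_zero, inv_one, one_mul]⟩
      · refine ⟨2, ?_⟩
        have e1 : c * e = c * c₀⁻¹ * (f * f) := by rw [hff]; group
        rw [e1, show f ^ (2 : ℤ) = f * f from zpow_two f, ← mul_assoc]
        have := hCn _ (inv_mem (mul_mem hfS hfS)) _ (mul_mem hc (inv_mem hc₀))
        rwa [inv_inv] at this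
    intro x hx
    rcases hSdec x hx with hx' | hx'
    · exact key x hx'
    · obtain ⟨n, hn⟩ := key _ hx'
      refine ⟨n + 1, ?_⟩
      have := hCn f⁻¹ (inv_mem hfS) _ hn
      rwa [inv_inv, show f⁻¹ * ((f ^ n)⁻¹ * (x * f⁻¹)) * f = (f ^ (n + 1))⁻¹ * x by
        rw [zpow_add, zpow_one]; group] at this
  obtain ⟨g, hg, hgC, -⟩ := extremal_in h.perf h.sylS hCS hCn hfS hgenS heS hee heC
  have hgez : g * e * g⁻¹ = z := (sq_one_cases hCc hzC hgC hzz hz1 (by
    rw [show g * e * g⁻¹ * (g * e * g⁻¹) = g * (e * e) * g⁻¹ by group, hee, mul_one, mul_inv_cancel])).resolve_left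
      fun e' => he1 (conj_eq_one_iff.1 e')
  by_cases hfe : f * e = e * f
  swap
  · refine not_fused h.sylS hzS heS h.iS hz.symm hie hzz hz1 (hz ▸ hez1) (fun x hx h4 h2 => ?_) hg hgez
    by_cases hxU : x ∈ U
    · rcases hUdec x hxU with hc | ⟨c, hc, rfl⟩
      · exact (sq_one_cases hCc hzC (mul_mem hc hc) hzz hz1 h4).resolve_left h2
      · refine (sq_one_cases hCc hzC ?_ hzz hz1 h4).resolve_left h2
        rw [show c * e * (c * e) = c * (e * c) * e by group, ← hCe c hc,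
          show c * (c * e) * e = c * c * (e * e) by group, hee, mul_one]
        exact mul_mem hc hc
    · rcases hUdec _ (hUprod x hx x hx hxU hxU) with hc | ⟨c, hc, e'⟩
      · exact (sq_one_cases hCc hzC hc hzz hz1 h4).resolve_left h2
      · exfalso
        have hxc : x * e = e * x := by
          have h4' : c * e * (c * e) = 1 := e' ▸ h4
          rw [show c * e * (c * e) = c * (e * c) * e by group, ← hCe c hc,
            show c * (c * e) * e = c * c * (e * e) by group, hee, mul_one] at h4'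
          have e2 : c⁻¹ * (x * x) = e := by rw [e', inv_mul_cancel_left]
          rcases sq_one_cases hCc hzC hc hzz hz1 h4' with hc1 | hc1
          · rw [hc1, inv_one, one_mul] at e2
            rw [← e2, mul_assoc]
          · rw [hc1, inv_eq_of_mul_eq_one_right hzz] at e2
            rw [← e2, ← mul_assoc x z, hzS x hx]; simp only [mul_assoc]
        refine hfe ?_
        have hu := hUprod x hx _ (inv_mem hfS) hxU hf'
        calc f * e = (x * f⁻¹)⁻¹ * (x * e) := by group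
          _ = (x * f⁻¹)⁻¹ * e * x := by rw [hxc, mul_assoc]
          _ = e * (x * f⁻¹)⁻¹ * x := by rw [hUab _ (inv_mem hu) e (hEU heE)]
          _ = e * f := by group
  have hecS : ∀ x ∈ S, x * e = e * x := fun x hx => by
    rcases hSdec x hx with hx' | hx'
    · exact hUab x hx' e (hEU heE)
    · rw [show x * e = x * f⁻¹ * (f * e) by group, hfe, ← mul_assoc, hUab _ hx' e (hEU heE), mul_assoc,
        inv_mul_cancel_right]
  obtain ⟨n, hnA, hne, hnS⟩ := burnside_in h.sylS hecS hzS hg hgez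
  by_cases hPa : P = a
  swap
  · -- the involution of `C` is a product of commutators
    obtain ⟨d, hd⟩ : ∃ d, d = f * a * f⁻¹ * a⁻¹ := ⟨_, rfl⟩
    have hdC : d ∈ C := hd ▸ hP ▸ mul_mem hPC (inv_mem haC)
    have hd1 : d ≠ 1 := fun e' => hPa (by rw [hP]; exact mul_inv_eq_one.1 (hd ▸ e'))
    have hcomm : ∀ x ∈ S, ∀ y ∈ S, x * y * x⁻¹ * y⁻¹ ∈ C := by
      intro x hx y hy
      obtain ⟨k, hk⟩ := hgenS x hx
      obtain ⟨l, hl⟩ := hgenS y hy
      obtain ⟨c, hc⟩ : ∃ c, c = (f ^ k)⁻¹ * x := ⟨_, rfl⟩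
      obtain ⟨c', hc'⟩ : ∃ c', c' = (f ^ l)⁻¹ * y := ⟨_, rfl⟩
      rw [← hc] at hk
      rw [← hc'] at hl
      rw [show x = f ^ k * c by rw [hc, mul_inv_cancel_left], show y = f ^ l * c' by rw [hc', mul_inv_cancel_left],
        show f ^ k * c * (f ^ l * c') * (f ^ k * c)⁻¹ * (f ^ l * c')⁻¹ = f ^ k * c * (f ^ k)⁻¹ *
          (f ^ (k + l) * (c' * c⁻¹) * (f ^ (k + l))⁻¹) * (f ^ l * c'⁻¹ * (f ^ l)⁻¹) by group]
      exact mul_mem (mul_mem (hCn _ (zpow_mem hfS _) _ hk) (hCn _ (zpow_mem hfS _) _ (mul_mem hl (inv_mem hk))))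
        (hCn _ (zpow_mem hfS _) _ (inv_mem hl))
    obtain ⟨l, hl⟩ := IsPGroup.iff_orderOf.1 h.hW ⟨d, h.SW (hCS hdC)⟩
    rw [Subgroup.orderOf_mk] at hl
    obtain ⟨l', rfl⟩ : ∃ l', l = l' + 1 := Nat.exists_eq_succ_of_ne_zero fun e' => hd1 (by
      rw [e', pow_zero] at hl; exact orderOf_eq_one_iff.1 hl)
    have hdz : d ^ 2 ^ l' = z := by
      refine (sq_one_cases hCc hzC (C.pow_mem hdC _) hzz hz1 ?_).resolve_left fun e' => ?_
      · rw [← pow_add, ← two_mul, ← pow_succ', ← hl, pow_orderOf_eq_one]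
      · have h1 := orderOf_dvd_of_pow_eq_one e'
        rw [hl] at h1
        have := Nat.le_of_dvd (by positivity) h1
        rw [pow_succ] at this
        have : 0 < 2 ^ l' := by positivity
        omega
    have hndC : n * d * n⁻¹ ∈ C := by
      rw [hd, show n * (f * a * f⁻¹ * a⁻¹) * n⁻¹ =
        n * f * n⁻¹ * (n * a * n⁻¹) * (n * f * n⁻¹)⁻¹ * (n * a * n⁻¹)⁻¹ by group]
      exact hcomm _ (hnS f hfS) _ (hnS a (hCS haC))
    have hnz : n * z * n⁻¹ = z := by
      refine (sq_one_cases hCc hzC ?_ hzz hz1 ?_).resolve_left fun e' => hz1 (conj_eq_one_iff.1 e')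
      · rw [← hdz, ← conj_pow]; exact C.pow_mem hndC _
      · rw [show n * z * n⁻¹ * (n * z * n⁻¹) = n * (z * z) * n⁻¹ by group, hzz, mul_one, mul_inv_cancel]
    exact hez1 (by rw [← hz]; exact mul_left_cancel (mul_right_cancel (hne.trans hnz.symm)))
  -- `S` is abelian of type (4,4)
  have hfa : f * a = a * f := mul_inv_eq_iff_eq_mul.1 (hP.symm.trans hPa)
  have haa : a * a = z := by
    have haE := hUinv f hfS hfU a haU hfa
    rcases hall _ haE with e' | e' | e' | e'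
    · exact absurd e' ha2
    · rw [e', hz]
    · exact absurd (e' ▸ mul_mem haC haC) heC
    · refine absurd ?_ heC
      have := mul_mem (mul_mem haC haC) hzC
      rwa [e', ← hz, mul_assoc, hzz, mul_one] at this
  have hc₀c₀ : c₀ * c₀ = 1 := by
    have e1 : t * (f * f) * t⁻¹ = z * (f * f) := by
      rw [show t * (f * f) * t⁻¹ = t * f * t⁻¹ * (t * f * t⁻¹) by group, htf,
        show a * f * (a * f) = a * (f * a) * f by group, hfa, show a * (a * f) * f = a * a * (f * f) by group, haa]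
    rw [hff, show t * (c₀ * e) * t⁻¹ = t * c₀ * t⁻¹ * (t * e * t⁻¹) by group, hCinv c₀ hc₀, hte, ← hz,
      ← hze, ← mul_assoc, ← mul_assoc] at e1
    have e2 : c₀⁻¹ = c₀ := mul_right_cancel (b := z) (mul_right_cancel (b := e) (by
      rw [hzS c₀ (hCS hc₀)]; exact e1))
    exact inv_eq_iff_mul_eq_one.1 e2
  have hff1 : f * f * (f * f) = 1 := by
    rw [hff, show c₀ * e * (c₀ * e) = c₀ * (e * c₀) * e by group, ← hCe c₀ hc₀,
      show c₀ * (c₀ * e) * e = c₀ * c₀ * (e * e) by group, hc₀c₀, hee, one_mul]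
  obtain ⟨Q, hQ⟩ := h.sylS.exists_sylow_subgroupOf
  have hmemQ : ∀ x : ↥A, x ∈ (Q : Subgroup ↥A) ↔ (x : G) ∈ S := fun x => by rw [hQ, Subgroup.mem_subgroupOf]
  have ha4 : a ^ 4 = 1 := by rw [show a ^ 4 = a * a * (a * a) by simp [pow_succ, mul_assoc], haa, hzz]
  have hf4 : f ^ 4 = 1 := by rw [show f ^ 4 = f * f * (f * f) by simp [pow_succ, mul_assoc], hff1]
  refine not_four_four (A := ↥A) h.perf Q (a := ⟨a, h.SA (hCS haC)⟩) (f := ⟨f, h.SA hfS⟩) ((hmemQ _).2 (hCS haC))
    ((hmemQ _).2 hfS) (Subtype.ext hfa.symm) (Subtype.ext ha4) (Subtype.ext hf4) ?_ ?_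
  · intro m l hm hl hml
    have hml' : a ^ m * f ^ l = 1 := congrArg Subtype.val hml
    have hfl : f ^ l ∈ C := by
      rw [show f ^ l = (a ^ m)⁻¹ by rw [eq_inv_of_mul_eq_one_right hml']]
      exact inv_mem (C.pow_mem haC m)
    have hl0 : l = 0 := by
      by_contra hl0
      obtain rfl | rfl | rfl : l = 1 ∨ l = 2 ∨ l = 3 := by omega
      · exact hfU (hCU (by rwa [pow_one] at hfl))
      · exact hq (by rwa [pow_two] at hfl)
      · refine hfU ?_
        have := mul_mem (hCU hfl) (inv_mem hffU)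
        rwa [show f ^ 3 = f * (f * f) by simp [pow_succ, mul_assoc], mul_inv_cancel_right] at this
    subst hl0
    rw [pow_zero, mul_one] at hml'
    refine ⟨?_, rfl⟩
    by_contra hm0
    obtain rfl | rfl | rfl : m = 1 ∨ m = 2 ∨ m = 3 := by omega
    · exact ha2 (by rw [pow_one] at hml'; rw [hml', one_mul])
    · exact ha2 (by rwa [pow_two] at hml')
    · refine ha2 ?_
      have e1 : a ^ 4 = a := by rw [pow_succ, hml', one_mul]
      rw [ha4] at e1
      rw [← e1, one_mul]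
  · intro x hx
    obtain ⟨l, hl⟩ := hgenS _ ((hmemQ x).1 hx)
    rw [hC] at hl
    obtain ⟨m, hm⟩ := Subgroup.mem_zpowers_iff.1 hl
    refine ⟨m, l, Subtype.ext ?_⟩
    show (x : G) = a ^ m * f ^ l
    rw [((show Commute a f from hfa.symm).zpow_zpow m l).eq, hm, mul_inv_cancel_left]

/-- No invariant four group. -/
theorem four_false {E : Subgroup G} (hES : E ≤ S) (hE : Cfsg.IsElementaryAbelian 2 E) (hE4 : Nat.card E = 4)
    (hEW : ∀ w ∈ W, ∀ x ∈ E, w * x * w⁻¹ ∈ E) : False := by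
  obtain ⟨hzE, hzW, e, heE, hee, he1, hez1, hez, hall, hte, hconj⟩ := h.four_e hES hE hE4 hEW
  by_cases hie : i * e = e * i
  · exact h.four_false_comm hES heE hEW hzE hzW hee he1 hez1 hez hall hte hconj hie
  · exact h.four_false_noncomm hES heE hEW hzE hzW hee he1 hez1 hez hall hte hconj hie

end Ctx

end Cfsg.Agent.Fusion.RankOne
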