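import Cfsg.Agent.Lib.Fusion.NormalFour

/-!
Normal subgroups without invariant four groups: a cyclic subgroup of index two with an inverting involution.
-/

set_option autoImplicit false
set_option linter.style.haveILetI false

namespace Cfsg.Agent.Fusion.RankOne

variable {G : Type*} [Group G]

/-- In a cyclic subgroup, two elements of square one are equal or one of them is trivial. -/
theorem sq_one_cases [Finite G] {C : Subgroup G} (hC : IsCyclic C) {z d : G} (hz : z ∈ C) (hd : d ∈ C)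
    (hz2 : z * z = 1) (hz1 : z ≠ 1) (hd2 : d * d = 1) : d = 1 ∨ d = z := by
  classical
  by_contra hne
  push Not at hne
  haveI := Fintype.ofFinite ↥C
  have h := IsCyclic.card_pow_eq_one_le (α := ↥C) (n := 2) two_pos
  have hsub : ({1, ⟨z, hz⟩, ⟨d, hd⟩} : Finset ↥C) ⊆ Finset.univ.filter fun a => a ^ 2 = 1 := by
    intro a ha
    simp only [Finset.mem_insert, Finset.mem_singleton] at ha
    rcases ha with rfl | rfl | rfl <;>
      simp [pow_two, Subtype.ext_iff, hz2, hd2]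
  have h3 := Finset.card_le_card hsub
  rw [Finset.card_eq_three.2 ⟨1, ⟨z, hz⟩, ⟨d, hd⟩, fun e => hz1 (congrArg Subtype.val e).symm,
    fun e => hne.1 (congrArg Subtype.val e).symm, fun e => hne.2 (congrArg Subtype.val e).symm, rfl⟩] at h3
  omega

/-- In a cyclic subgroup, an element of order four generates all elements of exponent four. -/
theorem mem_zpowers_of_four [Finite G] {C : Subgroup G} (hC : IsCyclic C) {d j : G} (hd : d ∈ C) (hj : j ∈ C)
    (hd4 : orderOf d = 4) (hj4 : j ^ 4 = 1) : j ∈ Subgroup.zpowers d := by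
  classical
  haveI := Fintype.ofFinite ↥C
  have hcard := IsCyclic.card_pow_eq_one_le (α := ↥C) (n := 4) (by norm_num)
  by_contra hj'
  have hinj : Function.Injective (fun i : Option (Fin 4) => (i.elim (⟨j, hj⟩ : ↥C) fun m => ⟨d, hd⟩ ^ (m : ℕ))) := by
    intro a b hab
    rcases a with _ | a <;> rcases b with _ | b <;> simp only [Option.elim] at hab
    · rfl
    · exact absurd ⟨(b : ℕ), by simpa using (congrArg Subtype.val hab).symm⟩ hj'
    · exact absurd ⟨(a : ℕ), by simpa using congrArg Subtype.val hab⟩ hj'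
    · refine congrArg some (Fin.ext ?_)
      exact pow_injOn_Iio_orderOf (show (a : ℕ) ∈ Set.Iio (orderOf (⟨d, hd⟩ : ↥C)) by
        rw [Set.mem_Iio, Subgroup.orderOf_mk, hd4]; exact a.2)
        (show (b : ℕ) ∈ Set.Iio (orderOf (⟨d, hd⟩ : ↥C)) by
        rw [Set.mem_Iio, Subgroup.orderOf_mk, hd4]; exact b.2) hab
  have hle : Fintype.card (Option (Fin 4)) ≤ (Finset.univ.filter fun a : ↥C => a ^ 4 = 1).card := by
    rw [← Finset.card_univ, ← Finset.card_image_of_injective _ hinj]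
    refine Finset.card_le_card fun a ha => ?_
    obtain ⟨i, -, rfl⟩ := Finset.mem_image.1 ha
    refine Finset.mem_filter.2 ⟨Finset.mem_univ _, Subtype.ext ?_⟩
    rcases i with _ | m
    · exact hj4
    · show (d ^ (m : ℕ)) ^ 4 = 1
      rw [← pow_mul, mul_comm, pow_mul, show d ^ 4 = 1 by rw [← hd4, pow_orderOf_eq_one], one_pow]
  simp at hle
  omega

/-- In a cyclic 2-subgroup, an element of square not one has the element of order four among its powers. -/
theorem four_mem_zpowers [Finite G] {C : Subgroup G} (hC : IsCyclic C) (hCp : IsPGroup 2 C) {j d : G}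
    (hj : j ∈ C) (hj4 : orderOf j = 4) (hd : d ∈ C) (hd2 : d * d ≠ 1) : j ∈ Subgroup.zpowers d := by
  obtain ⟨k, hk⟩ := IsPGroup.iff_orderOf.1 hCp ⟨d, hd⟩
  rw [Subgroup.orderOf_mk] at hk
  have h4 : 4 ∣ orderOf d := by
    rcases k with _ | _ | k
    · have h1 : d = 1 := orderOf_eq_one_iff.1 (by simpa using hk)
      exact absurd (by rw [h1, one_mul]) hd2
    · exact absurd (by rw [← pow_two]; have := pow_orderOf_eq_one d; rwa [hk] at this) hd2
    · exact hk ▸ ⟨2 ^ k, by ring⟩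
  exact (Subgroup.zpowers_le.2 (Subgroup.pow_mem _ (Subgroup.mem_zpowers d) _))
    (mem_zpowers_of_four hC (C.pow_mem hd _) hj (orderOf_pow_orderOf_div (orderOf_pos d).ne' h4)
      (by rw [← hj4, pow_orderOf_eq_one]))

/-- An element inverting an element of order four fixes only elements of square one. -/
theorem fix_inv_sq_one [Finite G] {C : Subgroup G} (hC : IsCyclic C) (hCp : IsPGroup 2 C) {j d x : G}
    (hj : j ∈ C) (hj4 : orderOf j = 4) (hd : d ∈ C) (hxj : x * j * x⁻¹ = j⁻¹) (hxd : x * d * x⁻¹ = d) :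
    d * d = 1 := by
  by_contra hd2
  obtain ⟨m, hm⟩ := Subgroup.mem_zpowers_iff.1 (four_mem_zpowers hC hCp hj hj4 hd hd2)
  have h : x * d ^ m * x⁻¹ = d ^ m := by rw [← conj_zpow, hxd]
  rw [hm, hxj] at h
  have h2 : j ^ 2 = 1 := by rw [pow_two]; exact inv_eq_iff_mul_eq_one.1 h
  have := orderOf_dvd_of_pow_eq_one h2
  rw [hj4] at this
  norm_num at this

/-- In a cyclic 2-subgroup, an element fixing an element of order four inverts only elements of square one. -/
theorem inv_fix_sq_one [Finite G] {C : Subgroup G} (hC : IsCyclic C) (hCp : IsPGroup 2 C) {j d x : G}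
    (hj : j ∈ C) (hj4 : orderOf j = 4) (hd : d ∈ C) (hxj : x * j * x⁻¹ = j) (hxd : x * d * x⁻¹ = d⁻¹) :
    d * d = 1 := by
  by_contra hd2
  have hinv : ∀ n : ℤ, x * d ^ n * x⁻¹ = (d ^ n)⁻¹ := fun n => by rw [← conj_zpow, hxd, inv_zpow]
  obtain ⟨m, hm⟩ : j ∈ Subgroup.zpowers d := four_mem_zpowers hC hCp hj hj4 hd hd2
  have h := hinv m
  rw [show d ^ m = j from hm, hxj] at h
  have h2 : j ^ 2 = 1 := by rw [pow_two]; nth_rewrite 2 [h]; exact mul_inv_cancel j
  have := orderOf_dvd_of_pow_eq_one h2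
  rw [hj4] at this
  norm_num at this

variable {X : Type*} [Group X] [Finite X]

/-- A cyclic normal subgroup of `X` of index at most two in `S`; the elements of `S` outside invert its elements of
order four. -/
theorem exists_cyclic_normal (hX : IsPGroup 2 X) (S : Subgroup X) [hSn : S.Normal]
    (hno : ∀ E : Subgroup X, E.Normal → E ≤ S → Cfsg.IsElementaryAbelian 2 E → Nat.card E = 4 → False) :
    ∃ C : Subgroup X, C.Normal ∧ C ≤ S ∧ IsCyclic C ∧ (∀ x ∈ S, ∀ y ∈ S, x ∉ C → y ∉ C → x * y ∈ C) ∧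
      ∀ j ∈ C, orderOf j = 4 → ∀ x ∈ S, x ∉ C → x * j * x⁻¹ = j⁻¹ := by
  classical
  haveI : Fact (Nat.Prime 2) := ⟨Nat.prime_two⟩
  -- a normal abelian subgroup of `S` of largest order
  obtain ⟨A, ⟨hAn, hAS, hAab⟩, hAmax⟩ :=
    Set.Finite.exists_maximalFor (fun A : Subgroup X => Nat.card A)
      {A : Subgroup X | A.Normal ∧ A ≤ S ∧ ∀ a ∈ A, ∀ b ∈ A, a * b = b * a} (Set.toFinite _)
      ⟨⊥, inferInstance, bot_le, fun a ha b hb => by rw [Subgroup.mem_bot.1 ha, Subgroup.mem_bot.1 hb]⟩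
  haveI := hAn
  have hmax : ∀ B : Subgroup X, B.Normal → B ≤ S → (∀ a ∈ B, ∀ b ∈ B, a * b = b * a) → A ≤ B → B = A := by
    intro B h1 h2 h3 h4
    exact (Subgroup.eq_of_le_of_card_ge h4 (hAmax ⟨h1, h2, h3⟩ (Subgroup.card_le_of_le h4))).symm
  -- it contains at most one involution
  have hom : ∀ x ∈ A, ∀ y ∈ A, x * x = 1 → y * y = 1 → y ≠ 1 → x ≠ 1 → x = y := by
    intro x hx y hy hx2 hy2 hy1 hx1
    by_contra hne
    let V : Subgroup X :=
      { carrier := {a | a ∈ A ∧ a * a = 1}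
        one_mem' := ⟨one_mem A, one_mul 1⟩
        mul_mem' := fun {a b} ha hb => ⟨mul_mem ha.1 hb.1, by
          rw [show a * b * (a * b) = a * (b * a) * b by group, hAab b hb.1 a ha.1,
            show a * (a * b) * b = a * a * (b * b) by group, ha.2, hb.2, one_mul]⟩
        inv_mem' := fun {a} ha => ⟨inv_mem ha.1, by rw [← mul_inv_rev, ha.2, inv_one]⟩ }
    haveI : V.Normal := ⟨fun a ha g => ⟨hAn.conj_mem a ha.1 g, by
      rw [show g * a * g⁻¹ * (g * a * g⁻¹) = g * (a * a) * g⁻¹ by group, ha.2, mul_one, mul_inv_cancel]⟩⟩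
    have hV : Cfsg.IsElementaryAbelian 2 V :=
      ⟨⟨⟨fun a b => Subtype.ext (hAab a a.2.1 b b.2.1)⟩⟩, fun a ha => (pow_two a).trans ha.2⟩
    have h4 : 4 ≤ Nat.card V := by
      have hxy1 : x * y ≠ 1 := fun h => hne (by
        rw [← inv_eq_of_mul_eq_one_right h, inv_eq_of_mul_eq_one_right hx2])
      let g : Fin 4 → V := ![1, ⟨x, hx, hx2⟩, ⟨y, hy, hy2⟩, ⟨x, hx, hx2⟩ * ⟨y, hy, hy2⟩]
      have hg : Function.Injective g := by
        intro i k hik
        have h' := congrArg Subtype.val hik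
        fin_cases i <;> fin_cases k <;> simp [g] at h' ⊢ <;>
          first
            | exact absurd h' hx1 | exact absurd h'.symm hx1 | exact absurd h' hy1 | exact absurd h'.symm hy1
            | exact absurd h' hne | exact absurd h'.symm hne | exact absurd h' hxy1 | exact absurd h'.symm hxy1
      have := Nat.card_le_card_of_injective g hg
      rwa [Nat.card_fin] at this
    obtain ⟨E, hEV, h1, h2, h3⟩ := normal_four_le hX V hV h4
    exact hno E h1 (hEV.trans fun a ha => hAS ha.1) h2 h3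
  have hcyc : IsCyclic A := by
    obtain ⟨⟨a, haA⟩, -, hgen⟩ := Solv.abelian_cyclic_of_unique (hX.to_subgroup A)
      (fun x y hx hy hy1 => by
        by_cases hx1 : x = 1
        · rw [hx1]; exact one_mem _
        · rw [show x = y from Subtype.ext (hom x x.2 y y.2
            ((pow_two _).symm.trans (congrArg Subtype.val hx)) ((pow_two _).symm.trans (congrArg Subtype.val hy))
            (fun h => hy1 (Subtype.ext h)) (fun h => hx1 (Subtype.ext h)))]
          exact Subgroup.mem_zpowers y) ⊤ (fun x _ y _ => Subtype.ext (hAab x x.2 y y.2))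
    exact isCyclic_of_surjective (Subgroup.zpowers (⟨a, haA⟩ : A)).subtype fun x =>
      ⟨⟨x, hgen.le (Subgroup.mem_top x)⟩, rfl⟩
  -- it is self-centralizing in `S`
  have hext : ∀ B : Subgroup X, B.Normal → A ≤ B → B ≠ A →
      ∃ x ∈ B, x ∉ A ∧ x * x ∈ A ∧ ∀ g : X, g * x * g⁻¹ * x⁻¹ ∈ A := by
    intro B hBn hAB hne
    haveI : (B.map (QuotientGroup.mk' A)).Normal := hBn.map _ (QuotientGroup.mk'_surjective A)
    haveI : Nontrivial ↥(B.map (QuotientGroup.mk' A)) := by
      rw [Subgroup.nontrivial_iff_ne_bot, Ne, Subgroup.map_eq_bot_iff, QuotientGroup.ker_mk']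
      exact fun h => hne (le_antisymm h hAB)
    obtain ⟨xb, hxB, hxc, hx1⟩ := Perm.exists_ne_one_center (hX.to_quotient A) (B.map (QuotientGroup.mk' A))
    obtain ⟨k, hk⟩ := IsPGroup.iff_orderOf.1 (hX.to_quotient A) xb
    obtain ⟨k', rfl⟩ : ∃ k', k = k' + 1 := Nat.exists_eq_succ_of_ne_zero (by
      rintro rfl; rw [pow_zero, orderOf_eq_one_iff] at hk; exact hx1 hk)
    have hw : orderOf (xb ^ 2 ^ k') = 2 := by
      rw [orderOf_pow' _ (pow_ne_zero _ two_ne_zero), hk, Nat.gcd_eq_right (pow_dvd_pow 2 (Nat.le_succ k')),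
        Nat.pow_div (Nat.le_succ k') two_pos]
      simp
    have hwB := Subgroup.pow_mem _ hxB (2 ^ k')
    have hwc := Subgroup.pow_mem _ hxc (2 ^ k')
    obtain ⟨x, hx, hxw⟩ := hwB
    rw [QuotientGroup.mk'_apply] at hxw
    refine ⟨x, hx, fun h => ?_, ?_, fun g => ?_⟩
    · rw [← hxw, (QuotientGroup.eq_one_iff x).2 h, orderOf_one] at hw
      exact absurd hw (by norm_num)
    · have h := pow_orderOf_eq_one (xb ^ 2 ^ k')
      rw [hw] at h
      rw [← QuotientGroup.eq_one_iff, QuotientGroup.mk_mul, hxw, ← pow_two, h]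
    · rw [← QuotientGroup.eq_one_iff, QuotientGroup.mk_mul, QuotientGroup.mk_mul, QuotientGroup.mk_mul,
        QuotientGroup.mk_inv, QuotientGroup.mk_inv, hxw, Subgroup.mem_center_iff.1 hwc, mul_inv_cancel_right,
        mul_inv_cancel]
  have hcent : ∀ x ∈ S, (∀ a ∈ A, x * a = a * x) → x ∈ A := by
    intro x hxS hx
    let Z : Subgroup X := S ⊓ Subgroup.centralizer (A : Set X)
    haveI : Z.Normal := inferInstance
    by_contra hxA
    obtain ⟨y, hy, hyA, hy2, hyc⟩ := hext Z inferInstance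
      (le_inf hAS fun a ha => Subgroup.mem_centralizer_iff.2 fun b hb => hAab b hb a ha)
      (fun h => hxA (h ▸ ⟨hxS, Subgroup.mem_centralizer_iff.2 fun b hb => (hx b hb).symm⟩))
    haveI hBn : (A ⊔ Subgroup.zpowers y).Normal := by
      refine ⟨fun w hw g => ?_⟩
      obtain ⟨a, ha, q, hq, rfl⟩ := Subgroup.mem_sup_of_normal_left.1 hw
      obtain ⟨n, rfl⟩ := Subgroup.mem_zpowers_iff.1 hq
      rw [show g * (a * y ^ n) * g⁻¹ = g * a * g⁻¹ * (g * y * g⁻¹) ^ n by rw [conj_zpow]; group]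
      refine mul_mem (Subgroup.mem_sup_left (hAn.conj_mem a ha g)) (Subgroup.zpow_mem _ ?_ n)
      rw [show g * y * g⁻¹ = g * y * g⁻¹ * y⁻¹ * y by group]
      exact mul_mem (Subgroup.mem_sup_left (hyc g)) (Subgroup.mem_sup_right (Subgroup.mem_zpowers y))
    have hcomm : ∀ a ∈ A ⊔ Subgroup.zpowers y, ∀ b ∈ A ⊔ Subgroup.zpowers y, a * b = b * a := by
      intro a ha b hb
      obtain ⟨a₁, ha₁, p, hp, rfl⟩ := Subgroup.mem_sup_of_normal_left.1 ha
      obtain ⟨b₁, hb₁, q, hq, rfl⟩ := Subgroup.mem_sup_of_normal_left.1 hb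
      obtain ⟨n, rfl⟩ := Subgroup.mem_zpowers_iff.1 hp
      obtain ⟨m, rfl⟩ := Subgroup.mem_zpowers_iff.1 hq
      have e1 : Commute a₁ (y ^ m) := Commute.zpow_right (Subgroup.mem_centralizer_iff.1 hy.2 a₁ ha₁) m
      have e2 : Commute b₁ (y ^ n) := Commute.zpow_right (Subgroup.mem_centralizer_iff.1 hy.2 b₁ hb₁) n
      exact (((show Commute a₁ b₁ from hAab a₁ ha₁ b₁ hb₁).mul_right e1).mul_left
        (e2.symm.mul_right (Commute.zpow_zpow (Commute.refl y) n m))).eq
    have h := hmax _ hBn (sup_le hAS (Subgroup.zpowers_le.2 hy.1)) hcomm le_sup_left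
    exact hyA (h.le (Subgroup.mem_sup_right (Subgroup.mem_zpowers y)))
  by_cases hAeq : ∀ x ∈ S, x ∈ A
  · exact ⟨A, hAn, hAS, hcyc, fun x hx y _ hxA _ => absurd (hAeq x hx) hxA,
      fun j _ _ x hx hxA => absurd (hAeq x hx) hxA⟩
  push Not at hAeq
  obtain ⟨s, hsS, hsA⟩ := hAeq
  obtain ⟨⟨a, ha⟩, hgen⟩ := hcyc.exists_generator
  obtain ⟨k, hk⟩ := IsPGroup.iff_orderOf.1 hX a
  have hgen' : ∀ b ∈ A, b ∈ Subgroup.zpowers a := fun b hb => by
    obtain ⟨n, hn⟩ := Subgroup.mem_zpowers_iff.1 (hgen ⟨b, hb⟩)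
    exact ⟨n, congrArg Subtype.val hn⟩
  have hk2 : 2 ≤ k := by
    by_contra h
    refine hsA (hcent s hsS fun b hb => ?_)
    have hb2 : ∀ c ∈ A, c * c = 1 := fun c hc => by
      obtain ⟨n, rfl⟩ := Subgroup.mem_zpowers_iff.1 (hgen' c hc)
      rw [← zpow_add, ← two_mul, zpow_mul]
      have : a ^ (2 : ℤ) = 1 := by
        rw [show (2 : ℤ) = ((2 : ℕ) : ℤ) from rfl, zpow_natCast, ← orderOf_dvd_iff_pow_eq_one, hk]
        calc 2 ^ k ∣ 2 ^ 1 := pow_dvd_pow 2 (by omega)
          _ = 2 := pow_one 2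
      rw [this, one_zpow]
    by_cases hb1 : b = 1
    · rw [hb1, mul_one, one_mul]
    · have h1 : s * b * s⁻¹ = b := hom _ (hAn.conj_mem b hb s) b hb (hb2 _ (hAn.conj_mem b hb s)) (hb2 b hb) hb1
        (fun e => hb1 (conj_eq_one_iff.1 e))
      exact mul_inv_eq_iff_eq_mul.1 h1
  obtain ⟨j, hj⟩ : ∃ j, j = a ^ 2 ^ (k - 2) := ⟨_, rfl⟩
  have hj4 : orderOf j = 4 := by
    rw [hj, orderOf_pow' _ (pow_ne_zero _ two_ne_zero), hk, Nat.gcd_eq_right (pow_dvd_pow 2 (by omega : k - 2 ≤ k)),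
      Nat.pow_div (by omega : k - 2 ≤ k) two_pos, show k - (k - 2) = 2 by omega]
    norm_num
  have hjA : j ∈ A := hj ▸ A.pow_mem ha _
  obtain ⟨z, hz⟩ : ∃ z, z = j * j := ⟨_, rfl⟩
  have hz1 : z ≠ 1 := fun h => by
    have := orderOf_dvd_of_pow_eq_one (show j ^ 2 = 1 by rw [pow_two, ← hz, h])
    rw [hj4] at this; norm_num at this
  have hz2 : z * z = 1 := by
    rw [hz, show j * j * (j * j) = j ^ 4 by simp [pow_succ, mul_assoc], ← hj4, pow_orderOf_eq_one]
  have hzA : z ∈ A := hz ▸ mul_mem hjA hjA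
  have hzc : ∀ g : X, g * z * g⁻¹ = z := fun g => hom _ (hAn.conj_mem z hzA g) z hzA
    (by rw [show g * z * g⁻¹ * (g * z * g⁻¹) = g * (z * z) * g⁻¹ by group, hz2, mul_one, mul_inv_cancel]) hz2 hz1
    (fun e => hz1 (conj_eq_one_iff.1 e))
  have hj2 : ∀ g : X, g * j * g⁻¹ = j ∨ g * j * g⁻¹ = j⁻¹ := by
    intro g
    have hm : g * j * g⁻¹ * j⁻¹ ∈ A := mul_mem (hAn.conj_mem j hjA g) (inv_mem hjA)
    have hsq : g * j * g⁻¹ * j⁻¹ * (g * j * g⁻¹ * j⁻¹) = 1 := by
      have e : Commute (g * j * g⁻¹) j⁻¹ := hAab _ (hAn.conj_mem j hjA g) _ (inv_mem hjA)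
      rw [← pow_two, e.mul_pow, conj_pow, inv_pow, pow_two, ← hz, hzc, mul_inv_cancel]
    rcases sq_one_cases hcyc hzA hm hz2 hz1 hsq with h | h
    · exact Or.inl (mul_inv_eq_one.1 h)
    · refine Or.inr ?_
      rw [mul_inv_eq_iff_eq_mul] at h
      rw [h, hz, eq_inv_iff_mul_eq_one, show j * j * j * j = j ^ 4 by simp [pow_succ, mul_assoc], ← hj4,
        pow_orderOf_eq_one]
  -- the centralizer of `j` in `S` is `A`
  have hK : ∀ x ∈ S, x * j * x⁻¹ = j → x ∈ A := by
    intro x₀ hx₀S hx₀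
    by_contra hx₀A
    haveI : (Subgroup.zpowers j).Normal := ⟨fun w hw g => by
      obtain ⟨n, rfl⟩ := Subgroup.mem_zpowers_iff.1 hw
      rw [← conj_zpow]
      rcases hj2 g with e | e <;> rw [e]
      · exact Subgroup.zpow_mem _ (Subgroup.mem_zpowers j) n
      · exact Subgroup.zpow_mem _ (inv_mem (Subgroup.mem_zpowers j)) n⟩
    have hcj : ∀ {w : X}, w * j = j * w → w ∈ Subgroup.centralizer (Subgroup.zpowers j : Set X) := fun {w} hw =>
      Subgroup.mem_centralizer_iff.2 fun b hb => by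
        obtain ⟨n, rfl⟩ := Subgroup.mem_zpowers_iff.1 hb
        exact ((show Commute w j from hw).zpow_right n).eq.symm
    let K : Subgroup X := S ⊓ Subgroup.centralizer (Subgroup.zpowers j : Set X)
    obtain ⟨x, hx, hxA, hx2, hxc⟩ := hext K inferInstance
      (le_inf hAS fun b hb => hcj (hAab b hb j hjA))
      (fun h => hx₀A (h ▸ ⟨hx₀S, hcj (mul_inv_eq_iff_eq_mul.1 hx₀)⟩))
    have hxj : x * j * x⁻¹ = j :=
      mul_inv_eq_iff_eq_mul.2 (Subgroup.mem_centralizer_iff.1 hx.2 j (Subgroup.mem_zpowers j)).symm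
    -- `x` moves the generator by `z`
    have hact : ∀ b ∈ A, x * b * x⁻¹ = b ∨ x * b * x⁻¹ = b * z := by
      intro b hb
      have hdA : b⁻¹ * (x * b * x⁻¹) ∈ A := mul_mem (inv_mem hb) (hAn.conj_mem b hb x)
      have hxx : x * (x * b * x⁻¹) * x⁻¹ = b := by
        rw [show x * (x * b * x⁻¹) * x⁻¹ = x * x * b * (x * x)⁻¹ by group, hAab _ hx2 b hb, mul_inv_cancel_right]
      have hinv : x * (b⁻¹ * (x * b * x⁻¹)) * x⁻¹ = (b⁻¹ * (x * b * x⁻¹))⁻¹ := by
        rw [show x * (b⁻¹ * (x * b * x⁻¹)) * x⁻¹ = (x * b * x⁻¹)⁻¹ * (x * (x * b * x⁻¹) * x⁻¹) by group, hxx]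
        group
      rcases sq_one_cases hcyc hzA hdA hz2 hz1
        (inv_fix_sq_one hcyc (hX.to_subgroup A) hjA hj4 hdA hxj hinv) with h | h
      · exact Or.inl (inv_mul_eq_one.1 h).symm
      · exact Or.inr (inv_mul_eq_iff_eq_mul.1 h)
    have hxa : x * a * x⁻¹ = a * z := by
      rcases hact a ha with h | h
      · refine absurd (hcent x hx.1 fun b hb => ?_) hxA
        obtain ⟨n, rfl⟩ := Subgroup.mem_zpowers_iff.1 (hgen' b hb)
        exact ((show Commute x a from mul_inv_eq_iff_eq_mul.1 h).zpow_right n).eq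
      · exact h
    -- an involution in the coset of `x`
    obtain ⟨m, hm⟩ := Subgroup.mem_zpowers_iff.1 (hgen' _ hx2)
    have hzn : ∀ n : ℤ, x * a ^ n * x⁻¹ = a ^ n * z ^ n := fun n => by
      rw [← conj_zpow, hxa, (show Commute a z from hAab a ha z hzA).mul_zpow]
    have hz2' : z ^ (2 : ℤ) = 1 := by rw [show (2 : ℤ) = ((2 : ℕ) : ℤ) from rfl, zpow_natCast, pow_two, hz2]
    have hzpow : ∀ n : ℤ, z ^ (2 * n) = 1 := fun n => by rw [zpow_mul, hz2', one_zpow]
    obtain ⟨m', rfl⟩ : ∃ m', m = 2 * m' := by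
      rcases Int.even_or_odd m with ⟨q, hq⟩ | ⟨q, hq⟩
      · exact ⟨q, by omega⟩
      · exfalso
        have h := hzn m
        rw [hm, show x * (x * x) * x⁻¹ = x * x by group, left_eq_mul, hq, zpow_add, hzpow, one_mul, zpow_one] at h
        exact hz1 h
    have hsq : ∀ i : ℤ, x * a ^ i * (x * a ^ i) = a ^ (2 * m' + (i + i)) * z ^ i := by
      intro i
      have e : x * a ^ i * (x * a ^ i) = x * a ^ i * x⁻¹ * (x * x) * a ^ i := by group
      rw [e, hzn, ← hm, hAab _ (A.zpow_mem ha i) _ (A.zpow_mem hzA i), mul_assoc, ← zpow_add, mul_assoc, ← zpow_add]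
      rw [hAab _ (A.zpow_mem hzA i) _ (A.zpow_mem ha _)]
      congr 2
      ring
    obtain ⟨i, hi⟩ : ∃ i : ℤ, x * a ^ i * (x * a ^ i) = 1 := by
      rcases Int.even_or_odd m' with ⟨q, hq⟩ | ⟨q, hq⟩
      · exact ⟨-m', by rw [hsq, show 2 * m' + (-m' + -m') = 0 by ring, zpow_zero, one_mul,
          show -m' = 2 * (-q) by omega, hzpow]⟩
      · have hk3 : 3 ≤ k := by
          by_contra h
          have hk' : k = 2 := by omega
          have : j = a := by rw [hj, hk', show 2 - 2 = 0 from rfl, pow_zero, pow_one]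
          rw [this, hxa] at hxj
          exact hz1 (mul_eq_left.1 hxj)
        refine ⟨-m' + 2 ^ (k - 2), ?_⟩
        rw [hsq, show -m' + 2 ^ (k - 2) = 2 * (-(q + 1) + 2 ^ (k - 3)) + 1 by
          rw [show (2 : ℤ) ^ (k - 2) = 2 * 2 ^ (k - 3) by rw [← pow_succ']; congr 1; omega]
          omega, zpow_add _ (2 * _) 1, hzpow, one_mul, zpow_one,
          show 2 * m' + (2 * (-(q + 1) + 2 ^ (k - 3)) + 1 + (2 * (-(q + 1) + 2 ^ (k - 3)) + 1)) =
            ((2 ^ (k - 2) : ℕ) : ℤ) + ((2 ^ (k - 2) : ℕ) : ℤ) by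
          rw [show (2 : ℕ) ^ (k - 2) = 2 * 2 ^ (k - 3) by rw [← pow_succ']; congr 1; omega]
          push_cast
          omega, zpow_add, zpow_natCast, ← hj, ← hz, hz2]
    set y := x * a ^ i with hy
    have hyS : y ∈ S := mul_mem hx.1 (hAS (A.zpow_mem ha i))
    have hyA : y ∉ A := fun h => hxA (by rwa [hy, Subgroup.mul_mem_cancel_right _ (A.zpow_mem ha i)] at h)
    have hy1 : y ≠ 1 := fun h => hyA (h ▸ one_mem A)
    -- the involutions of the coset
    have hyc : ∀ g : X, g * y * g⁻¹ = y ∨ g * y * g⁻¹ = y * z := by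
      intro g
      have hdA : y⁻¹ * (g * y * g⁻¹) ∈ A := by
        have e : y⁻¹ * (g * y * g⁻¹) = a ^ (-i) * (x⁻¹ * (g * x * g⁻¹ * x⁻¹) * x) * (g * a ^ i * g⁻¹) := by
          rw [hy]; group
        rw [e]
        refine mul_mem (mul_mem (A.zpow_mem ha _) ?_) (hAn.conj_mem _ (A.zpow_mem ha i) g)
        simpa using hAn.conj_mem _ (hxc g) x⁻¹
      obtain ⟨d, hd⟩ : ∃ d, d = y⁻¹ * (g * y * g⁻¹) := ⟨_, rfl⟩
      rw [← hd] at hdA
      have hgy : g * y * g⁻¹ = y * d := by rw [hd, mul_inv_cancel_left]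
      have hy' : y⁻¹ = y := inv_eq_of_mul_eq_one_right hi
      have hyd : y * d * y⁻¹ = d⁻¹ := by
        rw [eq_inv_iff_mul_eq_one, hy', show y * d * y * d = y * d * (y * d) by group, ← hgy,
          show g * y * g⁻¹ * (g * y * g⁻¹) = g * (y * y) * g⁻¹ by group, hi, mul_one, mul_inv_cancel]
      have hyj : y * j * y⁻¹ = j := by
        rw [hy, show x * a ^ i * j * (x * a ^ i)⁻¹ = x * (a ^ i * j * (a ^ i)⁻¹) * x⁻¹ by group,
          hAab _ (A.zpow_mem ha i) _ hjA, mul_inv_cancel_right, hxj]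
      rcases sq_one_cases hcyc hzA hdA hz2 hz1
        (inv_fix_sq_one hcyc (hX.to_subgroup A) hjA hj4 hdA hyj hyd) with h | h
      · left; rw [hgy, h, mul_one]
      · right; rw [hgy, h]
    set V := Subgroup.zpowers z ⊔ Subgroup.zpowers y with hVdef
    have hzV : z ∈ V := Subgroup.mem_sup_left (Subgroup.mem_zpowers z)
    have hyV : y ∈ V := Subgroup.mem_sup_right (Subgroup.mem_zpowers y)
    haveI hVn : V.Normal := by
      refine ⟨fun w hw g => ?_⟩
      have hle : V ≤ V.comap (MulAut.conj g).toMonoidHom := by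
        refine sup_le (Subgroup.zpowers_le.2 ?_) (Subgroup.zpowers_le.2 ?_)
        · show g * z * g⁻¹ ∈ V
          rw [hzc]; exact hzV
        · show g * y * g⁻¹ ∈ V
          rcases hyc g with e | e <;> rw [e]
          · exact hyV
          · exact mul_mem hyV hzV
      exact hle hw
    have hV : Cfsg.IsElementaryAbelian 2 V :=
      Local.elemAb_sup (Local.elemAb_zpowers ((pow_two z).trans hz2)) (Local.elemAb_zpowers ((pow_two y).trans hi))
        fun p hp q hq => by
          obtain ⟨n, rfl⟩ := Subgroup.mem_zpowers_iff.1 hp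
          obtain ⟨l, rfl⟩ := Subgroup.mem_zpowers_iff.1 hq
          exact (Commute.zpow_zpow (mul_inv_eq_iff_eq_mul.1 (hzc y)).symm n l).eq
    have hV4 : 4 ≤ Nat.card V := by
      have hzy : z * y ≠ 1 := fun h => hyA (by rw [← inv_eq_of_mul_eq_one_right h]; exact inv_mem hzA)
      let g : Fin 4 → V := ![1, ⟨z, hzV⟩, ⟨y, hyV⟩, ⟨z, hzV⟩ * ⟨y, hyV⟩]
      have hne : z ≠ y := fun h => hyA (h ▸ hzA)
      have hg : Function.Injective g := by
        intro p q hpq
        have h' := congrArg Subtype.val hpq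
        fin_cases p <;> fin_cases q <;> simp [g] at h' ⊢ <;>
          first
            | exact absurd h' hz1 | exact absurd h'.symm hz1 | exact absurd h' hy1 | exact absurd h'.symm hy1
            | exact absurd h' hne | exact absurd h'.symm hne | exact absurd h' hzy | exact absurd h'.symm hzy
      have := Nat.card_le_card_of_injective g hg
      rwa [Nat.card_fin] at this
    obtain ⟨E, hEV, h1, h2, h3⟩ := normal_four_le hX V hV hV4
    exact hno E h1 (hEV.trans (sup_le (Subgroup.zpowers_le.2 (hAS hzA)) (Subgroup.zpowers_le.2 hyS))) h2 h3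
  have hinvj : ∀ x ∈ S, x ∉ A → x * j * x⁻¹ = j⁻¹ := fun x hx hxA =>
    (hj2 x).resolve_left fun h => hxA (hK x hx h)
  refine ⟨A, hAn, hAS, hcyc, fun x hx y hy hxA hyA => ?_, fun j' hj'A hj'4 x hx hxA => ?_⟩
  · refine hK _ (mul_mem hx hy) ?_
    rw [show x * y * j * (x * y)⁻¹ = x * (y * j * y⁻¹) * x⁻¹ by group, hinvj y hy hyA,
      show x * j⁻¹ * x⁻¹ = (x * j * x⁻¹)⁻¹ by group, hinvj x hx hxA, inv_inv]
  · have hjj' : Commute j' j := hAab j' hj'A j hjA
    obtain ⟨n, rfl⟩ : j' ∈ Subgroup.zpowers j := mem_zpowers_of_four hcyc hjA hj'A hj4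
      (by rw [← hj'4, pow_orderOf_eq_one])
    show x * j ^ n * x⁻¹ = (j ^ n)⁻¹
    rw [← conj_zpow, hinvj x hx hxA, inv_zpow]

/-- The frame: a cyclic normal subgroup of `X` of index two in `S` and an involution of `S` inverting its element of
order four. -/
theorem exists_frame_normal (hX : IsPGroup 2 X) (S : Subgroup X) [hSn : S.Normal]
    (hno : ∀ E : Subgroup X, E.Normal → E ≤ S → Cfsg.IsElementaryAbelian 2 E → Nat.card E = 4 → False)
    {u v : X} (hu : u ∈ S) (hv : v ∈ S) (huu : u * u = 1) (hvv : v * v = 1) (hu1 : u ≠ 1) (hv1 : v ≠ 1)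
    (huv : u ≠ v) (hcuv : u * v = v * u) :
    ∃ (C : Subgroup X) (j s : X), C.Normal ∧ C ≤ S ∧ IsCyclic C ∧ j ∈ C ∧ orderOf j = 4 ∧ s ∈ S ∧ s ∉ C ∧
      s * s = 1 ∧ s * j * s⁻¹ = j⁻¹ ∧ ∀ x ∈ S, ∀ y ∈ S, x ∉ C → y ∉ C → x * y ∈ C := by
  obtain ⟨C, hCn, hCS, hCc, hprod, hinv⟩ := exists_cyclic_normal hX S hno
  -- an involution outside
  obtain ⟨s, hsS, hsC, hss⟩ : ∃ s ∈ S, s ∉ C ∧ s * s = 1 := by
    by_contra hne
    push Not at hne
    have huC : u ∈ C := by_contra fun h => hne u hu h huu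
    rcases sq_one_cases hCc huC (by_contra fun h => hne v hv h hvv) huu hu1 hvv with h | h
    · exact hv1 h
    · exact huv h.symm
  -- an element of order four
  have hCp : IsPGroup 2 C := hX.to_subgroup C
  obtain ⟨⟨a, ha⟩, hgen⟩ := hCc.exists_generator
  obtain ⟨k, hk⟩ := IsPGroup.iff_orderOf.1 hX a
  have hk2 : 2 ≤ k := by
    by_contra h
    -- otherwise `S` would be a four group normal in `X`
    have ha2 : a * a = 1 := by
      rw [← pow_two, ← orderOf_dvd_iff_pow_eq_one, hk]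
      calc 2 ^ k ∣ 2 ^ 1 := pow_dvd_pow 2 (by omega)
        _ = 2 := pow_one 2
    have hCa : ∀ c ∈ C, c = 1 ∨ c = a := by
      intro c hc
      obtain ⟨n, hn⟩ := Subgroup.mem_zpowers_iff.1 (hgen ⟨c, hc⟩)
      have hn' : a ^ n = c := congrArg Subtype.val hn
      rcases Int.even_or_odd n with ⟨q, rfl⟩ | ⟨q, rfl⟩
      · left
        rw [← hn', ← two_mul, zpow_mul, show a ^ (2 : ℤ) = 1 by
          rw [show (2 : ℤ) = ((2 : ℕ) : ℤ) from rfl, zpow_natCast, pow_two, ha2], one_zpow]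
      · right
        rw [← hn', zpow_add, zpow_mul, show a ^ (2 : ℤ) = 1 by
          rw [show (2 : ℤ) = ((2 : ℕ) : ℤ) from rfl, zpow_natCast, pow_two, ha2], one_zpow, one_mul, zpow_one]
    have hs' : s⁻¹ = s := inv_eq_of_mul_eq_one_right hss
    have hSel : ∀ x ∈ S, x * x = 1 := by
      intro x hx
      by_cases hxC : x ∈ C
      · rcases hCa x hxC with rfl | rfl
        · exact one_mul 1
        · exact ha2
      · have hm := hprod s hsS x hx hsC hxC
        have e : x = s * (s * x) := by rw [← mul_assoc, hss, one_mul]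
        rcases hCa _ hm with hc | hc
        · rw [e, hc, mul_one, hss]
        · rw [e, hc]
          have hcz : s * a * s⁻¹ = a := by
            rcases hCa _ (hCn.conj_mem a ha s) with h1 | h1
            · have ha1 : a = 1 := conj_eq_one_iff.1 h1
              rw [ha1, mul_one, mul_inv_cancel]
            · exact h1
          rw [hs'] at hcz
          rw [show s * a * (s * a) = s * a * s * a by group, hcz, ha2]
    have hab : ∀ x ∈ S, ∀ y ∈ S, x * y = y * x := by
      intro x hx y hy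
      rw [← inv_eq_of_mul_eq_one_right (hSel _ (mul_mem hx hy)), mul_inv_rev,
        inv_eq_of_mul_eq_one_right (hSel x hx), inv_eq_of_mul_eq_one_right (hSel y hy)]
    have hS : Cfsg.IsElementaryAbelian 2 S :=
      ⟨⟨⟨fun p q => Subtype.ext (hab p p.2 q q.2)⟩⟩, fun p hp => (pow_two p).trans (hSel p hp)⟩
    have h4 : 4 ≤ Nat.card S := by
      have huv1 : u * v ≠ 1 := fun h => huv (by
        rw [← inv_eq_of_mul_eq_one_right h, inv_eq_of_mul_eq_one_right huu])
      let g : Fin 4 → S := ![1, ⟨u, hu⟩, ⟨v, hv⟩, ⟨u, hu⟩ * ⟨v, hv⟩]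
      have hg : Function.Injective g := by
        intro p q hpq
        have h' := congrArg Subtype.val hpq
        fin_cases p <;> fin_cases q <;> simp [g] at h' ⊢ <;>
          first
            | exact absurd h' hu1 | exact absurd h'.symm hu1 | exact absurd h' hv1 | exact absurd h'.symm hv1
            | exact absurd h' huv | exact absurd h'.symm huv | exact absurd h' huv1 | exact absurd h'.symm huv1
      have := Nat.card_le_card_of_injective g hg
      rwa [Nat.card_fin] at this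
    obtain ⟨E, hES, h1, h2, h3⟩ := normal_four_le hX S hS h4
    exact hno E h1 hES h2 h3
  have hj4 : orderOf (a ^ 2 ^ (k - 2)) = 4 := by
    rw [orderOf_pow' _ (pow_ne_zero _ two_ne_zero), hk, Nat.gcd_eq_right (pow_dvd_pow 2 (by omega : k - 2 ≤ k)),
      Nat.pow_div (by omega : k - 2 ≤ k) two_pos, show k - (k - 2) = 2 by omega]
    norm_num
  exact ⟨C, a ^ 2 ^ (k - 2), s, hCn, hCS, hCc, C.pow_mem ha _, hj4, hsS, hsC, hss,
    hinv _ (C.pow_mem ha _) hj4 s hsS hsC, hprod⟩

end Cfsg.Agent.Fusion.RankOne
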