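import Cfsg.Agent.Lib.Fusion.Basic
import Mathlib.GroupTheory.Transfer

/-!
The parity of the transfer into a quotient of order two of a Sylow 2-subgroup, on involutions.
-/

set_option autoImplicit false
set_option linter.style.haveILetI false

namespace Cfsg.Agent.Fusion.RankOne

variable {G : Type*} [Group G] [Finite G]

open MulAction in
/-- The transfer kills an involution whose conjugates in `H` all lie in `T`, and not one whose conjugates in `H` all
lie outside `T`. -/
theorem parity (S : Sylow 2 G) (T : Subgroup G) [hTn : (T.subgroupOf (S : Subgroup G)).Normal]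
    (hidx : ∀ a ∈ (S : Subgroup G), ∀ b ∈ (S : Subgroup G), a ∉ T → b ∉ T → a * b ∈ T)
    {y y' : G} (hy : y * y = 1) (hy' : y' * y' = 1) (hy'S : y' ∈ S) (hy'T : y' ∉ T)
    (hin : ∀ g : G, g * y * g⁻¹ ∈ S → g * y * g⁻¹ ∈ T)
    (hout : ∀ g : G, g * y' * g⁻¹ ∈ S → g * y' * g⁻¹ ∉ T)
    (hsame : ∀ f : G →* (↥(S : Subgroup G) ⧸ T.subgroupOf (S : Subgroup G)),
      (∀ a b : ↥(S : Subgroup G) ⧸ T.subgroupOf (S : Subgroup G), a * b = b * a) → f y = f y') : False := by
  classical
  haveI : Fact (Nat.Prime 2) := ⟨Nat.prime_two⟩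
  obtain ⟨τ, hτ⟩ : ∃ τ, τ = (QuotientGroup.mk (⟨y', hy'S⟩ : ↥(S : Subgroup G)) :
      ↥(S : Subgroup G) ⧸ T.subgroupOf (S : Subgroup G)) := ⟨_, rfl⟩
  have hτ1 : τ ≠ 1 := fun h =>
    hy'T ((QuotientGroup.eq_one_iff (N := T.subgroupOf (S : Subgroup G)) ⟨y', hy'S⟩).1 (hτ.symm.trans h))
  have hτ2 : τ * τ = 1 := by
    rw [hτ, ← QuotientGroup.mk_mul, QuotientGroup.eq_one_iff]
    show y' * y' ∈ T
    rw [hy']; exact one_mem T
  -- the quotient has order two
  have hval : ∀ x : ↥(S : Subgroup G), (x : G) ∉ T →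
      (QuotientGroup.mk x : ↥(S : Subgroup G) ⧸ T.subgroupOf (S : Subgroup G)) = τ := by
    intro x hx
    rw [hτ, QuotientGroup.eq]
    exact hidx _ (inv_mem x.2) _ hy'S (fun h => hx (by simpa using inv_mem h)) hy'T
  have hcomm : ∀ a b : ↥(S : Subgroup G) ⧸ T.subgroupOf (S : Subgroup G), a * b = b * a := by
    intro a b
    obtain ⟨a, rfl⟩ := QuotientGroup.mk_surjective a
    obtain ⟨b, rfl⟩ := QuotientGroup.mk_surjective b
    by_cases ha : (a : G) ∈ T
    · rw [(QuotientGroup.eq_one_iff a).2 ha, one_mul, mul_one]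
    by_cases hb : (b : G) ∈ T
    · rw [(QuotientGroup.eq_one_iff b).2 hb, one_mul, mul_one]
    rw [hval a ha, hval b hb]
  letI : CommGroup (↥(S : Subgroup G) ⧸ T.subgroupOf (S : Subgroup G)) :=
    { (inferInstance : Group (↥(S : Subgroup G) ⧸ T.subgroupOf (S : Subgroup G))) with mul_comm := hcomm }
  haveI : (S : Subgroup G).FiniteIndex := inferInstance
  set ϕ : ↥(S : Subgroup G) →* ↥(S : Subgroup G) ⧸ T.subgroupOf (S : Subgroup G) := QuotientGroup.mk' _ with hϕ
  haveI := Fintype.ofFinite (G ⧸ (S : Subgroup G))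
  -- the terms of the transfer of an involution
  have hperiod : ∀ {v : G}, v * v = 1 → ∀ c : G ⧸ (S : Subgroup G), v • c ≠ c →
      Function.minimalPeriod (v • ·) c = 2 := by
    intro v hv c hc
    have h2 : Function.minimalPeriod (v • ·) c ∣ 2 := by
      refine Function.IsPeriodicPt.minimalPeriod_dvd ?_
      show (v • ·)^[2] c = c
      rw [Function.iterate_succ_apply, Function.iterate_one, ← mul_smul, hv, one_smul]
    exact ((Nat.dvd_prime Nat.prime_two).1 h2).resolve_left fun h =>
      hc (Function.minimalPeriod_eq_one_iff_isFixedPt.1 h)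
  have hterm : ∀ {v : G}, v * v = 1 → ∀ c : G ⧸ (S : Subgroup G), v • c ≠ c →
      ϕ ⟨c.out⁻¹ * v ^ Function.minimalPeriod (v • ·) c * c.out,
        QuotientGroup.out_conj_pow_minimalPeriod_mem _ v c⟩ = 1 := by
    intro v hv c hc
    have he : (⟨c.out⁻¹ * v ^ Function.minimalPeriod (v • ·) c * c.out,
        QuotientGroup.out_conj_pow_minimalPeriod_mem _ v c⟩ : ↥(S : Subgroup G)) = 1 := Subtype.ext (by
      show c.out⁻¹ * v ^ Function.minimalPeriod (v • ·) c * c.out = 1
      rw [hperiod hv c hc, pow_two, hv]; group)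
    exact (congrArg ϕ he).trans (map_one ϕ)
  have h1 : MonoidHom.transfer ϕ y = 1 := by
    haveI := Fintype.ofFinite (Quotient (orbitRel (Subgroup.zpowers y) (G ⧸ (S : Subgroup G))))
    rw [MonoidHom.transfer_eq_prod_quotient_orbitRel_zpowers_quot]
    refine Finset.prod_eq_one fun q _ => ?_
    by_cases hfix : y • q.out = q.out
    · refine (QuotientGroup.eq_one_iff _).2 ?_
      have hm1 : Function.minimalPeriod (y • ·) q.out = 1 := Function.minimalPeriod_eq_one_iff_isFixedPt.2 hfix
      have hmem := QuotientGroup.out_conj_pow_minimalPeriod_mem (S : Subgroup G) y q.out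
      show q.out.out⁻¹ * y ^ Function.minimalPeriod (y • ·) q.out * q.out.out ∈ T
      rw [hm1, pow_one] at hmem ⊢
      have h := hin q.out.out⁻¹
      rw [inv_inv] at h
      exact h hmem
    · exact hterm hy _ hfix
  have h2 : MonoidHom.transfer ϕ y' = τ := by
    haveI := Fintype.ofFinite (Quotient (orbitRel (Subgroup.zpowers y') (G ⧸ (S : Subgroup G))))
    rw [MonoidHom.transfer_eq_prod_quotient_orbitRel_zpowers_quot]
    obtain ⟨Sb, hSb⟩ : ∃ Sb : Finset (Quotient (orbitRel (Subgroup.zpowers y') (G ⧸ (S : Subgroup G)))),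
        Sb = Finset.univ.filter fun q => y' • q.out = q.out := ⟨_, rfl⟩
    have hall : ∀ q : Quotient (orbitRel (Subgroup.zpowers y') (G ⧸ (S : Subgroup G))),
        ϕ ⟨q.out.out⁻¹ * y' ^ Function.minimalPeriod (y' • ·) q.out * q.out.out,
          QuotientGroup.out_conj_pow_minimalPeriod_mem _ y' q.out⟩ = if q ∈ Sb then τ else 1 := by
      intro q
      by_cases hfix : y' • q.out = q.out
      · rw [if_pos (by rw [hSb, Finset.mem_filter]; exact ⟨Finset.mem_univ _, hfix⟩)]
        have hm1 : Function.minimalPeriod (y' • ·) q.out = 1 := Function.minimalPeriod_eq_one_iff_isFixedPt.2 hfix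
        have hmem := QuotientGroup.out_conj_pow_minimalPeriod_mem (S : Subgroup G) y' q.out
        refine hval _ ?_
        show q.out.out⁻¹ * y' ^ Function.minimalPeriod (y' • ·) q.out * q.out.out ∉ T
        rw [hm1, pow_one] at hmem ⊢
        have h := hout q.out.out⁻¹
        rw [inv_inv] at h
        exact h hmem
      · rw [if_neg (by rw [hSb, Finset.mem_filter]; exact fun h => hfix h.2)]
        exact hterm hy' _ hfix
    rw [Finset.prod_congr rfl fun q _ => hall q, Finset.prod_ite_mem, Finset.univ_inter, Finset.prod_const]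
    -- the fixed cosets are odd in number
    have hodd : ¬ 2 ∣ Sb.card := by
      intro hd
      have hcard : Sb.card = (fixedPoints ↥(Subgroup.zpowers y') (G ⧸ (S : Subgroup G))).ncard := by
        rw [Set.ncard_eq_toFinset_card _ (Set.toFinite _)]
        refine Finset.card_bij (fun q _ => q.out) (fun q hq => ?_) (fun a _ b _ h => ?_) (fun c hc => ?_)
        · rw [hSb, Finset.mem_filter] at hq
          rw [Set.Finite.mem_toFinset]
          rintro ⟨z, i, rfl⟩
          exact Subgroup.zpow_mem (stabilizer G q.out) hq.2 i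
        · rw [← Quotient.out_eq a, ← Quotient.out_eq b, h]
        · have hc' := (Set.Finite.mem_toFinset _).1 hc
          have hfix : y' • c = c := hc' ⟨y', Subgroup.mem_zpowers y'⟩
          have he : (Quotient.mk (orbitRel (Subgroup.zpowers y') (G ⧸ (S : Subgroup G))) c).out = c := by
            have h1 : (Quotient.mk (orbitRel (Subgroup.zpowers y') (G ⧸ (S : Subgroup G))) c).out ∈
                orbit (Subgroup.zpowers y') c :=
              Quotient.mk_out (s := orbitRel (Subgroup.zpowers y') (G ⧸ (S : Subgroup G))) c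
            obtain ⟨⟨z, i, rfl⟩, hz⟩ := h1
            rw [← hz]
            exact Subgroup.zpow_mem (stabilizer G c) hfix i
          exact ⟨_, by rw [hSb, Finset.mem_filter, he]; exact ⟨Finset.mem_univ _, hfix⟩, he⟩
      have hyp : IsPGroup 2 ↥(Subgroup.zpowers y') := fun x => ⟨1, by
        obtain ⟨n, hn⟩ := Subgroup.mem_zpowers_iff.1 x.2
        refine Subtype.ext ?_
        show (x : G) ^ 2 ^ 1 = 1
        rw [← hn, pow_one, pow_two, ← zpow_add, ← two_mul, zpow_mul,
          show y' ^ (2 : ℤ) = 1 by rw [show (2 : ℤ) = ((2 : ℕ) : ℤ) from rfl, zpow_natCast, pow_two, hy'], one_zpow]⟩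
      have hm := hyp.card_modEq_card_fixedPoints (G ⧸ (S : Subgroup G))
      rw [Nat.card_coe_set_eq, ← hcard] at hm
      refine S.not_dvd_index ?_
      rw [Subgroup.index_eq_card]
      exact (Nat.ModEq.dvd_iff hm dvd_rfl).2 hd
    obtain ⟨n, hn⟩ := Nat.odd_iff.2 (Nat.two_dvd_ne_zero.1 hodd)
    rw [hn, pow_succ, pow_mul, pow_two, hτ2, one_pow, one_mul]
  exact hτ1 (h2.symm.trans ((hsame (MonoidHom.transfer ϕ) hcomm).symm.trans h1))

end Cfsg.Agent.Fusion.RankOne
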