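import Cfsg.Agent.Lib.Fusion.RankOne.Basic
import Cfsg.Agent.Lib.Fusion.RankOne.Parity

/-!
An involution acting on a perfect group with centraliser having cyclic Sylow 2-subgroups of order four.
-/

set_option autoImplicit false
set_option linter.style.haveILetI false

namespace Cfsg.Agent.Fusion.RankOne

variable {G : Type*} [Group G] [Finite G]

/-- An involution `t` acting on the perfect group `A` with a Sylow 2-subgroup of `C_A(t)` generated by `i` of order
four, inside a Sylow 2-subgroup `S` of `A` and `W` of `A⟨t⟩`. -/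
structure Ctx (A W S : Subgroup G) (t i : G) : Prop where
  perf : commutator ↥A = ⊤
  sylW : SylIn 2 W (A ⊔ Subgroup.zpowers t)
  sylS : SylIn 2 S A
  nrm : t ∈ Subgroup.normalizer (A : Set G)
  inter : S = W ⊓ A
  tW : t ∈ W
  tt : t * t = 1
  tA : t ∉ A
  iS : i ∈ S
  io : orderOf i = 4
  it : t * i * t⁻¹ = i
  fix : ∀ x ∈ S, t * x * t⁻¹ = x → x ∈ Subgroup.zpowers i
  pair : ∀ g ∈ A ⊔ Subgroup.zpowers t, ∀ p ∈ A, ∀ q ∈ A, p * p = 1 → q * q = 1 → p ≠ 1 → q ≠ 1 → p ≠ q →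
    p * q = q * p → p * (g * t * g⁻¹) = g * t * g⁻¹ * p → q * (g * t * g⁻¹) = g * t * g⁻¹ * q → False

namespace Ctx

variable {A W S : Subgroup G} {t i : G} (h : Ctx A W S t i)
include h

theorem SW : S ≤ W := h.inter ▸ inf_le_left
theorem SA : S ≤ A := h.sylS.le
theorem hW : IsPGroup 2 W := h.sylW.isPGroup
theorem AB : A ≤ A ⊔ Subgroup.zpowers t := le_sup_left
theorem BA : A ⊔ Subgroup.zpowers t ≤ Subgroup.normalizer (A : Set G) :=
  sup_le Subgroup.le_normalizer (Subgroup.zpowers_le.2 h.nrm)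

theorem conj_mem {w x : G} (hw : w ∈ W) (hx : x ∈ S) : w * x * w⁻¹ ∈ S := by
  rw [h.inter] at hx ⊢
  rw [Subgroup.mem_inf] at hx ⊢
  exact ⟨mul_mem (mul_mem hw hx.1) (inv_mem hw), (Subgroup.mem_normalizer_iff.1 (h.BA (h.sylW.le hw)) x).1 hx.2⟩

theorem t_inv : t⁻¹ = t := inv_eq_of_mul_eq_one_right h.tt

theorem coset {w : G} (hw : w ∈ W) : w ∈ S ∨ w * t ∈ S := by
  obtain ⟨a, ha, v, hv, rfl⟩ : ∃ a ∈ A, ∃ v ∈ Subgroup.zpowers t, a * v = w := by
    have h1 := h.sylW.le hw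
    rw [← SetLike.mem_coe,
      Subgroup.coe_mul_of_right_le_normalizer_left A (Subgroup.zpowers t) (Subgroup.zpowers_le.2 h.nrm)] at h1
    obtain ⟨a, ha, v, hv, e⟩ := h1
    exact ⟨a, ha, v, hv, e⟩
  obtain ⟨n, rfl⟩ := Subgroup.mem_zpowers_iff.1 hv
  have ht2 : t ^ (2 : ℤ) = 1 := by rw [show (2 : ℤ) = ((2 : ℕ) : ℤ) from rfl, zpow_natCast, pow_two, h.tt]
  rcases Int.even_or_odd n with ⟨q, rfl⟩ | ⟨q, rfl⟩
  · left
    rw [← two_mul, zpow_mul, ht2, one_zpow, mul_one] at hw ⊢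
    rw [h.inter]; exact ⟨hw, ha⟩
  · right
    rw [zpow_add, zpow_mul, ht2, one_zpow, one_mul, zpow_one] at hw ⊢
    rw [mul_assoc, h.tt, mul_one, h.inter]
    refine Subgroup.mem_inf.2 ⟨?_, ha⟩
    have := mul_mem hw h.tW
    rwa [mul_assoc, h.tt, mul_one] at this

theorem z_ne : i * i ≠ 1 := fun e => by
  have := orderOf_dvd_of_pow_eq_one (show i ^ 2 = 1 by rw [pow_two, e])
  rw [h.io] at this; norm_num at this

theorem z_sq : i * i * (i * i) = 1 := by
  rw [show i * i * (i * i) = i ^ 4 by simp [pow_succ, mul_assoc], ← h.io, pow_orderOf_eq_one]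

/-- The only involution of `S` fixed by `t` is `i * i`. -/
theorem fixed_invol {x : G} (hx : x ∈ S) (hxx : x * x = 1) (hx1 : x ≠ 1) (hxt : t * x * t⁻¹ = x) : x = i * i :=
  (sq_one_cases (Subgroup.isCyclic_zpowers i) (mul_mem (Subgroup.mem_zpowers i) (Subgroup.mem_zpowers i))
    (h.fix x hx hxt) h.z_sq h.z_ne hxx).resolve_left hx1

theorem hom_eq {X : Subgroup G} (hAX : A ≤ X) {Q : Type*} [Group Q] (hQ : ∀ a b : Q, a * b = b * a) (f : ↥X →* Q)
    (a : ↥A) : f (Subgroup.inclusion hAX a) = 1 := by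
  letI : CommGroup Q := { (inferInstance : Group Q) with mul_comm := hQ }
  exact MonoidHom.mem_ker.1 (Abelianization.commutator_subset_ker (f.comp (Subgroup.inclusion hAX))
    (h.perf ▸ Subgroup.mem_top a))

/-- No cyclic invariant subgroup of index two with an inverting involution outside. -/
theorem frame_false {C : Subgroup G} {j s : G} (hCS : C ≤ S) (hCc : IsCyclic C)
    (hCn : ∀ w ∈ W, ∀ x ∈ C, w * x * w⁻¹ ∈ C) (hj : j ∈ C) (hj4 : orderOf j = 4) (hsS : s ∈ S) (hsC : s ∉ C)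
    (hss : s * s = 1) (hsj : s * j * s⁻¹ = j⁻¹)
    (hprod : ∀ x ∈ S, ∀ y ∈ S, x ∉ C → y ∉ C → x * y ∈ C) : False := by
  classical
  haveI : Fact (Nat.Prime 2) := ⟨Nat.prime_two⟩
  have hCp : IsPGroup 2 C := h.hW.to_le (hCS.trans h.SW)
  have hcommC : ∀ a ∈ C, ∀ b ∈ C, a * b = b * a := fun a ha b hb => by
    haveI := hCc
    letI : CommGroup ↥C := IsCyclic.commGroup
    exact congrArg Subtype.val (mul_comm (⟨a, ha⟩ : ↥C) ⟨b, hb⟩)
  have hj4' : j ^ 4 = 1 := by rw [← hj4, pow_orderOf_eq_one]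
  obtain ⟨z, hz⟩ : ∃ z, z = j * j := ⟨_, rfl⟩
  have hz2 : z * z = 1 := by rw [hz, show j * j * (j * j) = j ^ 4 by simp [pow_succ, mul_assoc], hj4']
  have hz1 : z ≠ 1 := fun e => by
    have := orderOf_dvd_of_pow_eq_one (show j ^ 2 = 1 by rw [pow_two, ← hz, e])
    rw [hj4] at this; norm_num at this
  have hzC : z ∈ C := hz ▸ mul_mem hj hj
  have hzW : ∀ w ∈ W, w * z * w⁻¹ = z := fun w hw => by
    rcases sq_one_cases hCc hzC (hCn w hw z hzC) hz2 hz1
      (by rw [show w * z * w⁻¹ * (w * z * w⁻¹) = w * (z * z) * w⁻¹ by group, hz2]; group) with e | e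
    · exact absurd (conj_eq_one_iff.1 e) hz1
    · exact e
  have hzi : z = i * i := h.fixed_invol (hCS hzC) hz2 hz1 (hzW t h.tW)
  have hsW := h.SW hsS
  have hsz : s * z = z * s := mul_inv_eq_iff_eq_mul.1 (hzW s hsW)
  have hsz' : s ≠ z := fun e => hsC (e ▸ hzC)
  have hs1 : s ≠ 1 := fun e => hsC (e ▸ one_mem C)
  have hs' : s⁻¹ = s := inv_eq_of_mul_eq_one_right hss
  have hout : ∀ {w x : G}, w ∈ W → x ∈ S → x ∉ C → w * x * w⁻¹ ∉ C := fun {w x} hw _ hxC e => hxC (by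
    have := hCn w⁻¹ (inv_mem hw) _ e
    rwa [show w⁻¹ * (w * x * w⁻¹) * w⁻¹⁻¹ = x by group] at this)
  have hinvj : ∀ x ∈ S, x ∉ C → x * j * x⁻¹ = j⁻¹ := by
    intro x hx hxC
    have hm := hprod s hsS x hx hsC hxC
    rw [show x = s * (s * x) by rw [← mul_assoc, hss, one_mul],
      show s * (s * x) * j * (s * (s * x))⁻¹ = s * (s * x * j * (s * x)⁻¹) * s⁻¹ by group,
      hcommC _ hm j hj, mul_inv_cancel_right, hsj]
  -- squares in `W`
  have hsquare : ∀ w ∈ W, w * w ∈ C := by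
    have hS2 : ∀ x ∈ S, x * x ∈ C := fun x hx => by
      by_cases hxC : x ∈ C
      · exact mul_mem hxC hxC
      · exact hprod x hx x hx hxC hxC
    intro w hw
    rcases h.coset hw with hw' | hw'
    · exact hS2 w hw'
    · rw [show w * w = w * t * (t * (w * t) * t⁻¹) by
        rw [show w * t * (t * (w * t) * t⁻¹) = w * (t * t) * w * (t * t⁻¹) by group, h.tt, mul_one,
          mul_inv_cancel, mul_one]]
      by_cases hC' : w * t ∈ C
      · exact mul_mem hC' (hCn t h.tW _ hC')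
      · exact hprod _ hw' _ (h.conj_mem h.tW hw') hC' (hout h.tW hw' hC')
  -- an element of order four with square `z` centralizing `s` is fatal
  have fuse : ∀ c ∈ W, c * c = z → c * s = s * c → False := by
    intro c hc hc2 hcs
    refine transfer_false h.perf h.sylS hCS hCc (fun w hw => hCn w (h.SW hw)) hprod hzC hz2 hz1 hsS hsC hss
      fun g hg => ?_
    refine not_fused h.sylW (fun w hw => mul_inv_eq_iff_eq_mul.1 (hzW w hw)) hsW hc hc2 hcs hz2 hz1 hsz' ?_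
      (h.AB hg)
    intro w hw h4 h2
    exact (sq_one_cases hCc hzC (hsquare w hw) hz2 hz1 h4).resolve_left h2
  have hjt : t * j * t⁻¹ = j ∨ t * j * t⁻¹ = j⁻¹ := by
    have hm : t * j * t⁻¹ * j⁻¹ ∈ C := mul_mem (hCn t h.tW j hj) (inv_mem hj)
    have h2 : t * j * t⁻¹ * j⁻¹ * (t * j * t⁻¹ * j⁻¹) = 1 := by
      have e : Commute (t * j * t⁻¹) j⁻¹ := hcommC _ (hCn t h.tW j hj) _ (inv_mem hj)
      rw [← pow_two, e.mul_pow, conj_pow, inv_pow, pow_two, ← hz, hzW t h.tW, mul_inv_cancel]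
    rcases sq_one_cases hCc hzC hm hz2 hz1 h2 with e | e
    · exact Or.inl (mul_inv_eq_one.1 e)
    · refine Or.inr ?_
      rw [mul_inv_eq_iff_eq_mul] at e
      rw [e, hz, eq_inv_iff_mul_eq_one, show j * j * j * j = j ^ 4 by simp [pow_succ, mul_assoc], hj4']
  have hjs : j * s * j⁻¹ = s * z := by
    have e : j * s = s * j⁻¹ := by rw [← hsj, ← mul_assoc, ← mul_assoc, hss, one_mul, hs']
    have ej : j⁻¹ * j⁻¹ = z := by rw [← mul_inv_rev, ← hz, inv_eq_of_mul_eq_one_right hz2]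
    rw [e, mul_assoc, ej]
  rcases hjt with hjt | hjt
  · -- `t` fixes `j`
    obtain ⟨x, hx⟩ : ∃ x, x = s * (t * s * t⁻¹) := ⟨_, rfl⟩
    have hxC : x ∈ C := hx ▸ hprod _ hsS _ (h.conj_mem h.tW hsS) hsC (hout h.tW hsS hsC)
    have hxt : t * x * t⁻¹ = x⁻¹ := by
      rw [hx, show t * (s * (t * s * t⁻¹)) * t⁻¹ = t * s * t⁻¹ * (t * t * s * (t * t)⁻¹) by group, h.tt]
      simp [hs', h.t_inv, mul_assoc]
    have hts : t * s * t⁻¹ = s * x := by rw [hx, ← mul_assoc, hss, one_mul]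
    rcases sq_one_cases hCc hzC hxC hz2 hz1 (inv_fix_sq_one hCc hCp hj hj4 hxC hjt hxt) with e | e
    · rw [e, mul_one] at hts
      exact hsz' ((h.fixed_invol hsS hss hs1 hts).trans hzi.symm)
    rw [e] at hts
    have htj : t * j = j * t := mul_inv_eq_iff_eq_mul.1 hjt
    refine fuse (t * j) (mul_mem h.tW (h.SW (hCS hj))) ?_ ?_
    · rw [show t * j * (t * j) = t * (j * t) * j by group, ← htj, show t * (t * j) * j = t * t * (j * j) by group,
        h.tt, one_mul, hz]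
    · have e' : t * j * s * (t * j)⁻¹ = s := by
        rw [show t * j * s * (t * j)⁻¹ = t * (j * s * j⁻¹) * t⁻¹ by group, hjs,
          show t * (s * z) * t⁻¹ = t * s * t⁻¹ * (t * z * t⁻¹) by group, hts, hzW t h.tW, mul_assoc, hz2, mul_one]
      exact mul_inv_eq_iff_eq_mul.1 e'
  -- `t` inverts `j`
  have hiC : i ∉ C := by
    intro hiC
    obtain ⟨n, hn⟩ := Subgroup.mem_zpowers_iff.1 (mem_zpowers_of_four hCc hiC hj h.io hj4')
    have e : t * j * t⁻¹ = j := by rw [← hn, ← conj_zpow, h.it]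
    rw [e] at hjt
    exact hz1 (by rw [hz]; exact eq_inv_iff_mul_eq_one.1 hjt)
  obtain ⟨c, hc⟩ : ∃ c, c = t * i := ⟨_, rfl⟩
  have hti : t * i = i * t := mul_inv_eq_iff_eq_mul.1 h.it
  have hcW : c ∈ W := hc ▸ mul_mem h.tW (h.SW h.iS)
  have hc2 : c * c = z := by
    rw [hc, show t * i * (t * i) = t * (i * t) * i by group, ← hti, show t * (t * i) * i = t * t * (i * i) by group,
      h.tt, one_mul, hzi]
  have hcj : c * j * c⁻¹ = j := by
    rw [hc, show t * i * j * (t * i)⁻¹ = t * (i * j * i⁻¹) * t⁻¹ by group, hinvj i h.iS hiC,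
      show t * j⁻¹ * t⁻¹ = (t * j * t⁻¹)⁻¹ by group, hjt, inv_inv]
  have hzs : z * s * z⁻¹ = s := mul_inv_eq_iff_eq_mul.2 hsz.symm
  obtain ⟨x, hx⟩ : ∃ x, x = s * (c * s * c⁻¹) := ⟨_, rfl⟩
  have hxC : x ∈ C := hx ▸ hprod _ hsS _ (h.conj_mem hcW hsS) hsC (hout hcW hsS hsC)
  have hxc : c * x * c⁻¹ = x⁻¹ := by
    rw [hx, show c * (s * (c * s * c⁻¹)) * c⁻¹ = c * s * c⁻¹ * (c * c * s * (c * c)⁻¹) by group, hc2, hzs]
    simp [hs', mul_assoc]
  have hcs : c * s * c⁻¹ = s * x := by rw [hx, ← mul_assoc, hss, one_mul]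
  rcases sq_one_cases hCc hzC hxC hz2 hz1 (inv_fix_sq_one hCc hCp hj hj4 hxC hcj hxc) with e | e
  · rw [e, mul_one] at hcs
    exact fuse c hcW hc2 (mul_inv_eq_iff_eq_mul.1 hcs)
  rw [e] at hcs
  -- an involution centralizing `s`
  obtain ⟨u, hu⟩ : ∃ u, u = c * j := ⟨_, rfl⟩
  have hcjc : c * j = j * c := mul_inv_eq_iff_eq_mul.1 hcj
  have huu : u * u = 1 := by
    rw [hu, show c * j * (c * j) = c * (j * c) * j by group, ← hcjc, show c * (c * j) * j = c * c * (j * j) by group,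
      hc2, ← hz, hz2]
  have hus : u * s * u⁻¹ = s := by
    rw [hu, show c * j * s * (c * j)⁻¹ = c * (j * s * j⁻¹) * c⁻¹ by group, hjs,
      show c * (s * z) * c⁻¹ = c * s * c⁻¹ * (c * z * c⁻¹) by group, hcs, hzW c hcW, mul_assoc, hz2, mul_one]
  have hus' : u * s = s * u := mul_inv_eq_iff_eq_mul.1 hus
  have huW : u ∈ W := hu ▸ mul_mem hcW (h.SW (hCS hj))
  have huz : u * z = z * u := mul_inv_eq_iff_eq_mul.1 (hzW u huW)
  have huj : u * j * u⁻¹ = j := by
    rw [hu, show c * j * j * (c * j)⁻¹ = c * j * c⁻¹ by group, hcj]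
  have huA : u ∉ A := fun hm => h.tA (by
    have := mul_mem (mul_mem hm (inv_mem (h.SA (hCS hj)))) (inv_mem (h.SA h.iS))
    rwa [hu, hc, mul_inv_cancel_right, mul_inv_cancel_right] at this)
  have hut : u * t ∈ S := by
    rcases h.coset huW with e' | e'
    · exact absurd (h.SA e') huA
    · exact e'
  obtain ⟨v, hv⟩ : ∃ v, v = u * s := ⟨_, rfl⟩
  have hvW : v ∈ W := hv ▸ mul_mem huW hsW
  have hvj : v * j * v⁻¹ = j⁻¹ := by
    rw [hv, show u * s * j * (u * s)⁻¹ = u * (s * j * s⁻¹) * u⁻¹ by group, hsj,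
      show u * j⁻¹ * u⁻¹ = (u * j * u⁻¹)⁻¹ by group, huj]
  have hvv : v * v = 1 := by
    rw [hv, show u * s * (u * s) = u * (s * u) * s by group, ← hus',
      show u * (u * s) * s = u * u * (s * s) by group, huu, hss, one_mul]
  have hu' : u⁻¹ = u := inv_eq_of_mul_eq_one_right huu
  -- squares in `C`
  letI : CommGroup ↥C := IsCyclic.commGroup
  obtain ⟨P, hP⟩ : ∃ P : Subgroup G, P = (powMonoidHom 2 : ↥C →* ↥C).range.map C.subtype := ⟨_, rfl⟩
  have hPC : P ≤ C := hP ▸ Subgroup.map_subtype_le _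
  have hmemP : ∀ {b : G}, b ∈ C → b * b ∈ P := fun {b} hb => hP ▸
    ⟨_, ⟨⟨b, hb⟩, rfl⟩, by show b ^ 2 = b * b; exact pow_two b⟩
  have hPsq : ∀ {x : G}, x ∈ P → ∃ b ∈ C, b * b = x := fun {x} hx => by
    rw [hP] at hx
    obtain ⟨_, ⟨b, rfl⟩, rfl⟩ := hx
    exact ⟨b, b.2, (pow_two _).symm⟩
  have hPn : ∀ w ∈ W, ∀ x ∈ P, w * x * w⁻¹ ∈ P := fun w hw x hx => by
    obtain ⟨b, hb, rfl⟩ := hPsq hx
    rw [show w * (b * b) * w⁻¹ = w * b * w⁻¹ * (w * b * w⁻¹) by group]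
    exact hmemP (hCn w hw b hb)
  have hzP : z ∈ P := hz ▸ hmemP hj
  have hindex : ∀ f : ↥C →* ↥C, (∀ b, f b = 1 → (b : G) * b = 1) → f.range.index ≤ 2 := by
    intro f hf
    have hk : Nat.card f.ker ≤ 2 := by
      rw [← Nat.card_fin 2]
      refine Nat.card_le_card_of_injective (fun x : f.ker => if x = 1 then (0 : Fin 2) else 1) fun p q hpq => ?_
      have hval : ∀ r : f.ker, r ≠ 1 → ((r : ↥C) : G) = z := fun r hr =>
        (sq_one_cases hCc hzC r.1.2 hz2 hz1 (hf r r.2)).resolve_left fun e' =>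
          hr (Subtype.ext (Subtype.ext e'))
      by_cases hp : p = 1 <;> by_cases hq : q = 1 <;> simp [hp, hq] at hpq
      · rw [hp, hq]
      · exact Subtype.ext (Subtype.ext ((hval p hp).trans (hval q hq).symm))
    have h1 := f.range.card_mul_index
    have h2 := Subgroup.card_eq_card_quotient_mul_card_subgroup f.ker
    rw [Nat.card_congr (QuotientGroup.quotientKerEquivRange f).toEquiv] at h2
    rw [h2] at h1
    exact (Nat.eq_of_mul_eq_mul_left Nat.card_pos h1).trans_le hk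
  have hPidx : ∀ {a b : G}, a ∈ C → b ∈ C → a ∉ P → b ∉ P → a * b ∈ P := by
    intro a b ha hb haP hbP
    have hi := hindex (powMonoidHom 2) fun x hx => by
      rw [← pow_two]; exact congrArg Subtype.val hx
    have hmem : ∀ {x : G} (hx : x ∈ C), x ∈ P ↔ (⟨x, hx⟩ : ↥C) ∈ (powMonoidHom 2 : ↥C →* ↥C).range := fun {x} hx =>
      ⟨fun hxP => by
        rw [hP] at hxP
        obtain ⟨y, hy, rfl⟩ := hxP
        exact hy, fun hy => hP ▸ ⟨_, hy, rfl⟩⟩
    rw [hmem ha] at haP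
    rw [hmem hb] at hbP
    have hne : (powMonoidHom 2 : ↥C →* ↥C).range.index = 2 := by
      rcases Nat.lt_or_eq_of_le hi with hlt | heq
      · have h1 : (powMonoidHom 2 : ↥C →* ↥C).range.index = 1 := by
          have := (powMonoidHom 2 : ↥C →* ↥C).range.index_ne_zero_of_finite
          omega
        exact absurd ((Subgroup.index_eq_one.1 h1).symm ▸ Subgroup.mem_top _) haP
      · exact heq
    exact (hmem (mul_mem ha hb)).2 ((Subgroup.mul_mem_iff_of_index_two hne).2 ⟨fun e' => absurd e' haP, fun e' => absurd e' hbP⟩)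
  -- conjugating `v` by `C` reaches every square
  have hreach : ∀ p ∈ P, ∃ b ∈ C, b * v * b⁻¹ = p * v := by
    intro p hp
    let φ : ↥C →* ↥C :=
      { toFun := fun b => b * ⟨v * (b : G) * v⁻¹, hCn v hvW b b.2⟩⁻¹
        map_one' := Subtype.ext (by show (1 : G) * (v * 1 * v⁻¹)⁻¹ = 1; group)
        map_mul' := fun a b => by
          have e' : (⟨v * ((a * b : ↥C) : G) * v⁻¹, hCn v hvW _ (a * b).2⟩ : ↥C) =
              ⟨v * (a : G) * v⁻¹, hCn v hvW a a.2⟩ * ⟨v * (b : G) * v⁻¹, hCn v hvW b b.2⟩ :=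
            Subtype.ext (by show v * ((a : G) * b) * v⁻¹ = _ * _; simp [mul_assoc])
          simp only [e', mul_inv]
          ac_rfl }
    have hi := hindex φ fun b hb => fix_inv_sq_one hCc hCp hj hj4 b.2 hvj (mul_inv_eq_one.1 (congrArg Subtype.val hb)).symm
    obtain ⟨b, hb, rfl⟩ := hPsq hp
    have hsqm : (⟨b, hb⟩ : ↥C) ^ 2 ∈ φ.range := by
      rcases Nat.lt_or_eq_of_le hi with hlt | heq
      · have h1 : φ.range.index = 1 := by have := φ.range.index_ne_zero_of_finite; omega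
        rw [Subgroup.index_eq_one.1 h1]
        exact Subgroup.mem_top _
      · exact Subgroup.sq_mem_of_index_two heq _
    obtain ⟨d, hd⟩ := hsqm
    refine ⟨d, d.2, ?_⟩
    have hd' : (d : G) * (v * d * v⁻¹)⁻¹ = b ^ 2 := congrArg Subtype.val hd
    rw [← pow_two, ← hd']
    group
  -- the decomposition of an involution outside `A`
  have hwu : ∀ {w : G}, w ∈ W → w ∉ A → w * u ∈ S := fun {w} hw hwA => by
    rcases h.coset hw with e' | e'
    · exact absurd (h.SA e') hwA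
    · have := mul_mem e' (h.conj_mem h.tW hut)
      rwa [show w * t * (t * (u * t) * t⁻¹) = w * (t * t) * u * (t * t⁻¹) by group, h.tt, mul_one, mul_inv_cancel,
        mul_one] at this
  have hfirst : ∀ {w : G}, w * w = 1 → w * u ∈ C → w * u = 1 ∨ w * u = z := by
    intro w hww hgC
    refine sq_one_cases hCc hzC hgC hz2 hz1 (inv_fix_sq_one hCc hCp hj hj4 hgC huj ?_)
    rw [mul_inv_rev, inv_eq_of_mul_eq_one_right hww, hu',
      show u * (w * u) * u = u * w * (u * u) by group, huu, mul_one]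
  have hfour : ∀ g ∈ A ⊔ Subgroup.zpowers t, ∀ f ∈ S, f * f = 1 → f ≠ 1 → f ≠ z → f * z = z * f →
      g * t * g⁻¹ * z = z * (g * t * g⁻¹) → g * t * g⁻¹ * f = f * (g * t * g⁻¹) → False :=
    fun g hg f hf hff hf1 hfz hfc e1 e2 =>
      h.pair g hg z (h.SA (hCS hzC)) f (h.SA hf) hz2 hff hz1 hf1 hfz.symm hfc.symm e1.symm e2.symm
  have hu_t : ∀ g ∈ A ⊔ Subgroup.zpowers t, g * t * g⁻¹ ≠ u := fun g hg e' =>
    hfour g hg s hsS hss hs1 hsz' hsz (by rw [e']; exact huz) (by rw [e']; exact hus')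
  have hv_t : ∀ g ∈ A ⊔ Subgroup.zpowers t, g * t * g⁻¹ ≠ v := fun g hg e' => by
    have e1 : v * z = z * v := mul_inv_eq_iff_eq_mul.1 (hzW v hvW)
    have e2 : v * s = s * v := by rw [hv, show s * (u * s) = s * u * s by group, ← hus', mul_assoc]
    exact hfour g hg s hsS hss hs1 hsz' hsz (by rw [e']; exact e1) (by rw [e']; exact e2)
  -- the decomposition of `t`
  have htC : t * u ∉ C := fun e' => by
    have htz : t * u = 1 ∨ t * u = z := hfirst h.tt e'
    have hts : t * s = s * t := by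
      rcases htz with e'' | e''
      · rw [show t = u from (mul_eq_one_iff_eq_inv.1 e'').trans hu']
        exact hus'
      · rw [show t = z * u by rw [← e'', mul_assoc, huu, mul_one], mul_assoc, hus', ← mul_assoc, ← hsz, mul_assoc]
    exact hsz' ((h.fixed_invol hsS hss hs1 (mul_inv_eq_iff_eq_mul.2 hts)).trans hzi.symm)
  have htu : t * u ∈ S := hwu h.tW h.tA
  obtain ⟨dt, hdt⟩ : ∃ dt, dt = t * u * s := ⟨_, rfl⟩
  have hdtC : dt ∈ C := hdt ▸ hprod _ htu _ hsS htC hsC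
  have htv : t = dt * v := by
    rw [hdt, hv, show t * u * s * (u * s) = t * u * (s * u) * s by group, ← hus',
      show t * u * (u * s) * s = t * (u * u) * (s * s) by group, huu, hss, mul_one, mul_one]
  have hdtP : dt ∉ P := fun e' => by
    obtain ⟨b, hb, hbv⟩ := hreach dt e'
    rw [← htv] at hbv
    refine hv_t b⁻¹ (h.sylW.le (inv_mem (h.SW (hCS hb)))) ?_
    rw [← hbv]; group
  -- the subgroup of index two of `W`
  let K : Subgroup G :=
    { carrier := {k | k = 1 ∨ k = s ∨ k = u ∨ k = v}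
      one_mem' := Or.inl rfl
      mul_mem' := by
        have e1 : s * u = v := by rw [hv, hus']
        have e2 : u * v = s := by rw [hv, ← mul_assoc, huu, one_mul]
        have e3 : v * u = s := by rw [← e1, mul_assoc, huu, mul_one]
        have e4 : s * v = u := by rw [← e1, ← mul_assoc, hss, one_mul]
        have e5 : v * s = u := by rw [hv, mul_assoc, hss, mul_one]
        rintro a b (rfl | rfl | rfl | rfl) (rfl | rfl | rfl | rfl) <;>
          simp [hss, huu, hvv, e1, e2, e3, e4, e5, ← hv]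
      inv_mem' := by
        rintro a (rfl | rfl | rfl | rfl) <;> simp [hs', hu', inv_eq_of_mul_eq_one_right hvv] }
  have hKW : K ≤ W := fun k hk => by
    rcases hk with rfl | rfl | rfl | rfl
    · exact one_mem W
    · exact hsW
    · exact huW
    · exact hvW
  let T : Subgroup G :=
    { carrier := {w | ∃ p ∈ P, ∃ k ∈ K, w = p * k}
      one_mem' := ⟨1, one_mem P, 1, one_mem K, (one_mul 1).symm⟩
      mul_mem' := by
        rintro a b ⟨p, hp, k, hk, rfl⟩ ⟨q, hq, l, hl, rfl⟩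
        exact ⟨p * (k * q * k⁻¹), mul_mem hp (hPn k (hKW hk) q hq), k * l, mul_mem hk hl, by group⟩
      inv_mem' := by
        rintro a ⟨p, hp, k, hk, rfl⟩
        exact ⟨k⁻¹ * p⁻¹ * k⁻¹⁻¹, hPn _ (inv_mem (hKW hk)) _ (inv_mem hp), k⁻¹, inv_mem hk, by group⟩ }
  have hTW : T ≤ W := by
    rintro _ ⟨p, hp, k, hk, rfl⟩
    exact mul_mem (h.SW (hCS (hPC hp))) (hKW hk)
  -- the factorisation of `W`
  have hdec : ∀ w ∈ W, ∃ c' ∈ C, ∃ k ∈ K, w = c' * k := by
    intro w hw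
    by_cases hwA : w ∈ A
    · have hwS : w ∈ S := h.inter ▸ Subgroup.mem_inf.2 ⟨hw, hwA⟩
      by_cases hwC : w ∈ C
      · exact ⟨w, hwC, 1, Or.inl rfl, (mul_one w).symm⟩
      · exact ⟨w * s, hprod _ hwS _ hsS hwC hsC, s, Or.inr (Or.inl rfl), by rw [mul_assoc, hss, mul_one]⟩
    · have hg := hwu hw hwA
      by_cases hwC : w * u ∈ C
      · exact ⟨w * u, hwC, u, Or.inr (Or.inr (Or.inl rfl)), by rw [mul_assoc, huu, mul_one]⟩
      · refine ⟨w * u * s, hprod _ hg _ hsS hwC hsC, v, Or.inr (Or.inr (Or.inr rfl)), ?_⟩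
        rw [hv, show w * u * s * (u * s) = w * u * (s * u) * s by group, ← hus',
          show w * u * (u * s) * s = w * (u * u) * (s * s) by group, huu, hss, mul_one, mul_one]
  have htwo : ∀ a ∈ W, ∀ b ∈ W, a ∉ T → b ∉ T → a * b ∈ T := by
    intro a ha b hb haT hbT
    obtain ⟨a', ha', k, hk, rfl⟩ := hdec a ha
    obtain ⟨b', hb', l, hl, rfl⟩ := hdec b hb
    refine ⟨a' * (k * b' * k⁻¹), hPidx ha' (hCn k (hKW hk) b' hb') (fun e' => haT ⟨a', e', k, hk, rfl⟩)
      (fun e' => hbT ⟨b', ?_, l, hl, rfl⟩), k * l, mul_mem hk hl, by group⟩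
    have := hPn k⁻¹ (inv_mem (hKW hk)) _ e'
    rwa [show k⁻¹ * (k * b' * k⁻¹) * k⁻¹⁻¹ = b' by group] at this
  have hTn : ∀ w ∈ W, ∀ x ∈ T, w * x * w⁻¹ ∈ T := by
    intro w hw x hx
    by_cases hwT : w ∈ T
    · exact mul_mem (mul_mem hwT hx) (inv_mem hwT)
    · refine htwo _ (mul_mem hw (hTW hx)) _ (inv_mem hw) (fun e' => hwT ?_)
        fun e' => hwT (by simpa using inv_mem e')
      have := mul_mem e' (inv_mem hx)
      rwa [mul_inv_cancel_right] at this
  have htT : t ∉ T := by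
    rintro ⟨p, hp, k, hk, e'⟩
    rcases hk with rfl | rfl | rfl | rfl
    · exact h.tA (e' ▸ mul_mem (h.SA (hCS (hPC hp))) (one_mem A))
    · exact h.tA (e' ▸ mul_mem (h.SA (hCS (hPC hp))) (h.SA hsS))
    · exact htC (by rw [e', mul_assoc, huu, mul_one]; exact hPC hp)
    · exact hdtP (by rw [show dt = p from mul_right_cancel (htv.symm.trans e')]; exact hp)
  -- involutions outside `A`
  have hclass : ∀ w ∈ W, w ∉ A → w * w = 1 → (∃ g ∈ W, g * t * g⁻¹ = w) ∨ (w ∈ T ∧ ∃ f ∈ S, f * f = 1 ∧ f ≠ 1 ∧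
      f ≠ z ∧ f * z = z * f ∧ w * z = z * w ∧ w * f = f * w) := by
    intro w hw hwA hww
    have hg := hwu hw hwA
    have hwz : w * z = z * w := mul_inv_eq_iff_eq_mul.1 (hzW w hw)
    by_cases hgC : w * u ∈ C
    · right
      have hw' : w = w * u * u := by rw [mul_assoc, huu, mul_one]
      have hgP : w * u ∈ P := by
        rcases hfirst hww hgC with e' | e' <;> rw [e']
        · exact one_mem P
        · exact hzP
      refine ⟨⟨w * u, hgP, u, Or.inr (Or.inr (Or.inl rfl)), hw'⟩, s, hsS, hss, hs1, hsz', hsz, hwz, ?_⟩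
      rw [hw']
      rcases hfirst hww hgC with e' | e' <;> rw [e']
      · rw [one_mul]; exact hus'
      · rw [mul_assoc, hus', ← mul_assoc, ← hsz, mul_assoc]
    · obtain ⟨d, hd⟩ : ∃ d, d = w * u * s := ⟨_, rfl⟩
      have hdC : d ∈ C := hd ▸ hprod _ hg _ hsS hgC hsC
      have hwv : w = d * v := by
        rw [hd, hv, show w * u * s * (u * s) = w * u * (s * u) * s by group, ← hus',
          show w * u * (u * s) * s = w * (u * u) * (s * s) by group, huu, hss, mul_one, mul_one]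
      by_cases hdP : d ∈ P
      · right
        obtain ⟨b, hb, hbv⟩ := hreach d hdP
        rw [← hwv] at hbv
        refine ⟨⟨d, hdP, v, Or.inr (Or.inr (Or.inr rfl)), hwv⟩, b * s * b⁻¹, h.conj_mem (h.SW (hCS hb)) hsS,
          by rw [show b * s * b⁻¹ * (b * s * b⁻¹) = b * (s * s) * b⁻¹ by group, hss, mul_one, mul_inv_cancel],
          fun e' => hs1 (conj_eq_one_iff.1 e'), fun e' => ?_, ?_, hwz, ?_⟩
        · exact hout (h.SW (hCS hb)) hsS hsC (e' ▸ hzC)
        · exact mul_inv_eq_iff_eq_mul.1 (hzW _ (h.SW (h.conj_mem (h.SW (hCS hb)) hsS)))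
        · have e2 : v * s = s * v := by rw [hv, show s * (u * s) = s * u * s by group, ← hus', mul_assoc]
          rw [← hbv, show b * v * b⁻¹ * (b * s * b⁻¹) = b * (v * s) * b⁻¹ by group, e2]
          group
      · left
        obtain ⟨b, hb, hbv⟩ := hreach (d * dt⁻¹) (hPidx hdC (inv_mem hdtC) hdP
          (fun e' => hdtP (by simpa using inv_mem e')))
        refine ⟨b, h.SW (hCS hb), ?_⟩
        rw [htv, show b * (dt * v) * b⁻¹ = b * dt * b⁻¹ * (b * v * b⁻¹) by group, hbv, hcommC b hb dt hdtC,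
          mul_inv_cancel_right, hwv, ← mul_assoc, hcommC dt hdtC _ (mul_mem hdC (inv_mem hdtC)), inv_mul_cancel_right]
  -- the transfer
  obtain ⟨X, hX⟩ : ∃ X, X = A ⊔ Subgroup.zpowers t := ⟨_, rfl⟩
  have hsylW : SylIn 2 W X := hX ▸ h.sylW
  have hAX : A ≤ X := hX ▸ le_sup_left
  obtain ⟨Q, hQ⟩ := hsylW.exists_sylow_subgroupOf
  have hmemQ : ∀ y : ↥X, y ∈ (Q : Subgroup ↥X) ↔ (y : G) ∈ W := fun y => by rw [hQ, Subgroup.mem_subgroupOf]
  haveI : ((T.subgroupOf X).subgroupOf (Q : Subgroup ↥X)).Normal :=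
    ⟨fun y hy w => hTn _ ((hmemQ w).1 w.2) _ hy⟩
  have htX : t ∈ X := hX ▸ Subgroup.mem_sup_right (Subgroup.mem_zpowers t)
  have huX : u ∈ X := hsylW.le huW
  have hnA : ∀ (g : ↥X) {y : G}, y ∉ A → (g : G) * y * (g : G)⁻¹ ∉ A := fun g y hy e' => hy
    ((Subgroup.mem_normalizer_iff.1 (h.BA (hX ▸ g.2)) y).2 e')
  refine parity Q (T.subgroupOf X) (fun a ha b hb haT hbT => htwo _ ((hmemQ a).1 ha) _ ((hmemQ b).1 hb) haT hbT)
    (y := ⟨u, huX⟩) (y' := ⟨t, htX⟩) (Subtype.ext huu) (Subtype.ext h.tt) ((hmemQ _).2 h.tW) htT ?_ ?_ ?_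
  · intro g hg
    have hw : (g : G) * u * (g : G)⁻¹ ∈ W := (hmemQ _).1 hg
    rcases hclass _ hw (hnA g huA)
      (by rw [show (g : G) * u * (g : G)⁻¹ * ((g : G) * u * (g : G)⁻¹) = g * (u * u) * (g : G)⁻¹ by group, huu]; group)
      with ⟨k, hk, hkt⟩ | ⟨hT', -⟩
    · refine absurd ?_ (hu_t ((g : G)⁻¹ * k) (mul_mem (inv_mem (hX ▸ g.2)) (h.sylW.le hk)))
      rw [show (g : G)⁻¹ * k * t * ((g : G)⁻¹ * k)⁻¹ = (g : G)⁻¹ * (k * t * k⁻¹) * g by group, hkt]
      group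
    · exact hT'
  · intro g hg hgT
    have hw : (g : G) * t * (g : G)⁻¹ ∈ W := (hmemQ _).1 hg
    rcases hclass _ hw (hnA g h.tA)
      (by rw [show (g : G) * t * (g : G)⁻¹ * ((g : G) * t * (g : G)⁻¹) = g * (t * t) * (g : G)⁻¹ by group, h.tt]; group)
      with ⟨k, hk, hkt⟩ | ⟨-, f, hf, hff, hf1, hfz, hfc, e1, e2⟩
    · refine htT ?_
      have := hTn k⁻¹ (inv_mem hk) _ (show (g : G) * t * (g : G)⁻¹ ∈ T from hgT)
      rwa [← hkt, show k⁻¹ * (k * t * k⁻¹) * k⁻¹⁻¹ = t by group] at this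
    · exact hfour g (hX ▸ g.2) f hf hff hf1 hfz hfc e1 e2
  · intro f hf
    have ha : u * t ∈ A := h.SA hut
    have := h.hom_eq hAX hf f ⟨u * t, ha⟩
    rw [show Subgroup.inclusion hAX ⟨u * t, ha⟩ = (⟨u, huX⟩ : ↥X) * ⟨t, htX⟩ from rfl, map_mul] at this
    rw [mul_eq_one_iff_eq_inv.1 this, ← map_inv]
    exact congrArg f (Subtype.ext h.t_inv)

end Ctx

end Cfsg.Agent.Fusion.RankOne
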