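import Cfsg.Agent.Lib.Fusion.RankOne.Frame

/-!
An involution with only one fixed involution on a normal subgroup of a 2-group: normal four groups and a cyclic
normal subgroup of index two.
-/

set_option autoImplicit false
set_option linter.style.haveILetI false

namespace Cfsg.Agent.Fusion.RankOne

variable {X : Type*} [Group X]

/-- An involution `τ` moving `e` by `z` and fixing `z`: an element moved by an element of the four group becomes fixed
after multiplication by `1` or `e`. -/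
theorem fix_or {τ e z x : X} (hττ : τ * τ = 1) (hτz : τ * z * τ⁻¹ = z) (hτe : τ * e * τ⁻¹ = e * z) (hzz : z * z = 1)
    (hee : e * e = 1) (hz1 : z ≠ 1) (hez : e * z = z * e)
    (hd : x⁻¹ * (τ * x * τ⁻¹) = 1 ∨ x⁻¹ * (τ * x * τ⁻¹) = z ∨ x⁻¹ * (τ * x * τ⁻¹) = e ∨
      x⁻¹ * (τ * x * τ⁻¹) = e * z) :
    τ * x * τ⁻¹ = x ∨ τ * (x * e) * τ⁻¹ = x * e := by
  have hτ' : τ⁻¹ = τ := inv_eq_of_mul_eq_one_right hττ
  obtain ⟨d, hd'⟩ : ∃ d, d = x⁻¹ * (τ * x * τ⁻¹) := ⟨_, rfl⟩
  rw [← hd'] at hd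
  have hx : τ * x * τ⁻¹ = x * d := by rw [hd', mul_inv_cancel_left]
  have htwice : d * (τ * d * τ⁻¹) = 1 := by
    have e1 : τ * (x * d) * τ⁻¹ = x := by
      rw [← hx, hτ']
      calc τ * (τ * x * τ) * τ = τ * τ * x * (τ * τ) := by group
        _ = x := by rw [hττ]; group
    rw [show τ * (x * d) * τ⁻¹ = τ * x * τ⁻¹ * (τ * d * τ⁻¹) by group, hx, mul_assoc] at e1
    exact mul_eq_left.1 e1
  rcases hd with rfl | rfl | rfl | rfl
  · exact Or.inl (by rw [hx, mul_one])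
  · refine Or.inr ?_
    rw [show τ * (x * e) * τ⁻¹ = τ * x * τ⁻¹ * (τ * e * τ⁻¹) by group, hx, hτe, mul_assoc, ← mul_assoc d e d, ← hez,
      mul_assoc, hzz, mul_one]
  · rw [hτe, ← mul_assoc, hee, one_mul] at htwice
    exact absurd htwice hz1
  · rw [show τ * (e * z) * τ⁻¹ = τ * e * τ⁻¹ * (τ * z * τ⁻¹) by group, hτe, hτz, mul_assoc e z z, hzz, mul_one, hez,
      mul_assoc, hee, mul_one] at htwice
    exact absurd htwice hz1

variable [Finite X]

/-- The data of a normal four group inside `S`, if `ι` is the only involution of `S` fixed by `τ`. -/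
theorem four_data (hX : IsPGroup 2 X) {S E : Subgroup X} [E.Normal] (hES : E ≤ S)
    (hE : Cfsg.IsElementaryAbelian 2 E) (hE4 : Nat.card E = 4) {τ ι : X}
    (hfix : ∀ x ∈ S, x * x = 1 → τ * x * τ⁻¹ = x → x = 1 ∨ x = ι) :
    ι ∈ E ∧ ι ≠ 1 ∧ ι * ι = 1 ∧ (∀ g : X, g * ι * g⁻¹ = ι) ∧ ∃ e ∈ E, e * e = 1 ∧ e ≠ 1 ∧ e ≠ ι ∧ e * ι = ι * e ∧
      (∀ d ∈ E, d = 1 ∨ d = ι ∨ d = e ∨ d = e * ι) ∧ τ * e * τ⁻¹ = e * ι ∧
      ∀ g : X, g * e * g⁻¹ = e ∨ g * e * g⁻¹ = e * ι := by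
  classical
  haveI : Fact (Nat.Prime 2) := ⟨Nat.prime_two⟩
  haveI : Nontrivial E := Finite.one_lt_card_iff_nontrivial.1 (by omega)
  have hsq : ∀ d ∈ E, d * d = 1 := fun d hd => (pow_two d).symm.trans (hE.2 d hd)
  obtain ⟨c, hcE, hcc, hc1⟩ := Perm.exists_ne_one_center hX E
  have hci : c = ι := (hfix c (hES hcE) (hsq c hcE)
    (by rw [Subgroup.mem_center_iff.1 hcc τ, mul_inv_cancel_right])).resolve_left hc1
  subst hci
  have hcen : ∀ g : X, g * c * g⁻¹ = c := fun g => by rw [Subgroup.mem_center_iff.1 hcc g, mul_inv_cancel_right]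
  haveI := hE.1
  obtain ⟨e, heE, he1, hec⟩ : ∃ e ∈ E, e ≠ 1 ∧ e ≠ c := by
    by_contra hne
    push Not at hne
    have hsub : (E : Set X) ⊆ {1, c} := fun d hd => by
      by_cases h1 : d = 1
      · exact Or.inl h1
      · exact Or.inr (hne d hd h1)
    have h1 := Set.ncard_le_ncard hsub (Set.toFinite _)
    have h2 : ({1, c} : Set X).ncard ≤ 2 := (Set.ncard_insert_le _ _).trans (by rw [Set.ncard_singleton])
    rw [← Nat.card_coe_set_eq, show Nat.card (E : Set X) = Nat.card E from rfl, hE4] at h1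
    omega
  have hez : e * c = c * e := setLike_mul_comm heE hcE
  have hall : ∀ d ∈ E, d = 1 ∨ d = c ∨ d = e ∨ d = e * c := by
    have hsub : ({1, c, e, e * c} : Set X) ⊆ E := by
      rintro d (rfl | rfl | rfl | rfl)
      · exact one_mem E
      · exact hcE
      · exact heE
      · exact mul_mem heE hcE
    have h4 : ({1, c, e, e * c} : Set X).ncard = 4 := by
      have hec1 : e * c ≠ 1 := fun h => hec (by
        rw [mul_eq_one_iff_eq_inv.1 h, inv_eq_of_mul_eq_one_right (hsq c hcE)])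
      have hecc : e * c ≠ c := fun h => he1 (mul_eq_right.1 h)
      have hece : e * c ≠ e := fun h => hc1 (mul_eq_left.1 h)
      rw [Set.ncard_insert_of_notMem (by simp [hc1.symm, he1.symm, hec1.symm]) (Set.toFinite _),
        Set.ncard_insert_of_notMem (by simp [hec.symm, hecc.symm]) (Set.toFinite _),
        Set.ncard_pair hece.symm]
    have heq := Set.eq_of_subset_of_ncard_le hsub (by
      rw [h4, ← Nat.card_coe_set_eq, show Nat.card (E : Set X) = Nat.card E from rfl, hE4]) (Set.toFinite _)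
    intro d hd
    have hd' : d ∈ ({1, c, e, e * c} : Set X) := by rw [heq]; exact hd
    simpa using hd'
  have hconj : ∀ g : X, g * e * g⁻¹ = e ∨ g * e * g⁻¹ = e * c := fun g => by
    rcases hall _ (Subgroup.Normal.conj_mem inferInstance e heE g) with h | h | h | h
    · exact absurd (conj_eq_one_iff.1 h) he1
    · exact absurd (mul_left_cancel (mul_right_cancel (h.trans (hcen g).symm))) hec
    · exact Or.inl h
    · exact Or.inr h
  exact ⟨hcE, hc1, hsq c hcE, hcen, e, heE, hsq e heE, he1, hec, hez, hall,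
    (hconj τ).resolve_left fun h => ((hfix e (hES heE) (hsq e heE) h).elim he1 hec), hconj⟩

/-- The centralizer in `S` of the four group is the four group. -/
theorem cent_four (hX : IsPGroup 2 X) {S E : Subgroup X} [S.Normal] [E.Normal] {τ ι e : X}
    (hττ : τ * τ = 1) (hιE : ι ∈ E) (heE : e ∈ E) (hι1 : ι ≠ 1) (hιι : ι * ι = 1) (hcen : ∀ g : X, g * ι * g⁻¹ = ι)
    (hee : e * e = 1) (hτe : τ * e * τ⁻¹ = e * ι) (hall : ∀ d ∈ E, d = 1 ∨ d = ι ∨ d = e ∨ d = e * ι)
    (hstay : ∀ x ∈ S, x * e = e * x → (τ * x * τ⁻¹ = x ∨ τ * (x * e) * τ⁻¹ = x * e) → x ∈ E) :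
    ∀ x ∈ S, x * e = e * x → x ∈ E := by
  classical
  haveI : Fact (Nat.Prime 2) := ⟨Nat.prime_two⟩
  intro x hx hxe
  by_contra hxE
  have hcI : ∀ g : X, g * ι = ι * g := fun g => mul_inv_eq_iff_eq_mul.1 (hcen g)
  obtain ⟨K, hK⟩ : ∃ K : Subgroup X, K = S ⊓ Subgroup.centralizer (E : Set X) := ⟨_, rfl⟩
  haveI : K.Normal := hK ▸ inferInstance
  have hmemK : ∀ {y : X}, y ∈ S → y * e = e * y → y ∈ K := fun {y} hy hye => by
    rw [hK]
    refine ⟨hy, Subgroup.mem_centralizer_iff.2 fun d hd => ?_⟩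
    rcases hall d hd with rfl | rfl | rfl | rfl
    · rw [one_mul, mul_one]
    · exact (hcI y).symm
    · exact hye.symm
    · rw [mul_assoc, ← hcI y, ← mul_assoc, ← hye, mul_assoc]
  haveI : (K.map (QuotientGroup.mk' E)).Normal := Subgroup.Normal.map inferInstance _ (QuotientGroup.mk'_surjective E)
  haveI : Nontrivial ↥(K.map (QuotientGroup.mk' E)) := by
    rw [Subgroup.nontrivial_iff_ne_bot, Ne, Subgroup.map_eq_bot_iff, QuotientGroup.ker_mk']
    exact fun h => hxE (h (hmemK hx hxe))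
  obtain ⟨yb, hyK, hyc, hy1⟩ := Perm.exists_ne_one_center (hX.to_quotient E) (K.map (QuotientGroup.mk' E))
  obtain ⟨y, hy, rfl⟩ := hyK
  rw [QuotientGroup.mk'_apply] at hyc hy1
  have hy' : y ∈ S ∧ y ∈ Subgroup.centralizer (E : Set X) := by rwa [hK] at hy
  have hye : y * e = e * y := (Subgroup.mem_centralizer_iff.1 hy'.2 e heE).symm
  refine hy1 ((QuotientGroup.eq_one_iff y).2 (hstay y hy'.1 hye (fix_or hττ (hcen τ) hτe hιι hee hι1 (hcI e) ?_)))
  refine hall _ ?_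
  rw [← QuotientGroup.eq_one_iff, QuotientGroup.mk_mul, QuotientGroup.mk_mul, QuotientGroup.mk_mul,
    QuotientGroup.mk_inv, QuotientGroup.mk_inv, Subgroup.mem_center_iff.1 hyc, mul_inv_cancel_right,
    inv_mul_cancel]

/-- An involution fixing only `1` and `ι` in `S`: a cyclic normal subgroup of index two through `ι`. -/
theorem exists_cyclic_fix (hX : IsPGroup 2 X) (S : Subgroup X) [hSn : S.Normal] {τ ι : X} (hττ : τ * τ = 1)
    (hιS : ι ∈ S) (hι1 : ι ≠ 1) (hιι : ι * ι = 1) (hfix : ∀ x ∈ S, τ * x * τ⁻¹ = x → x = 1 ∨ x = ι) :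
    ∃ C : Subgroup X, C.Normal ∧ C ≤ S ∧ IsCyclic C ∧ ι ∈ C ∧ (∀ x ∈ S, ∀ y ∈ S, x ∉ C → y ∉ C → x * y ∈ C) ∧
      ∀ j ∈ C, orderOf j = 4 → ∀ x ∈ S, x ∉ C → x * j * x⁻¹ = j⁻¹ := by
  classical
  haveI : Fact (Nat.Prime 2) := ⟨Nat.prime_two⟩
  have hmem : ∀ N : Subgroup X, N.Normal → N ≤ S → N ≠ ⊥ → ι ∈ N ∧ ∀ g : X, g * ι * g⁻¹ = ι := by
    intro N hN hNS hne
    haveI := hN
    haveI : Nontrivial N := (Subgroup.nontrivial_iff_ne_bot N).2 hne
    obtain ⟨c, hcN, hcc, hc1⟩ := Perm.exists_ne_one_center hX N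
    have hci : c = ι := (hfix c (hNS hcN)
      (by rw [Subgroup.mem_center_iff.1 hcc τ, mul_inv_cancel_right])).resolve_left hc1
    subst hci
    exact ⟨hcN, fun g => by rw [Subgroup.mem_center_iff.1 hcc g, mul_inv_cancel_right]⟩
  have hcen : ∀ g : X, g * ι * g⁻¹ = ι :=
    (hmem S hSn le_rfl fun h => hι1 (Subgroup.mem_bot.1 (h ▸ hιS))).2
  haveI hzn : (Subgroup.zpowers ι).Normal := ⟨fun w hw g => by
    obtain ⟨n, rfl⟩ := Subgroup.mem_zpowers_iff.1 hw
    rw [← conj_zpow, hcen]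
    exact Subgroup.zpow_mem _ (Subgroup.mem_zpowers ι) n⟩
  have hzι : ∀ w ∈ Subgroup.zpowers ι, w = 1 ∨ w = ι := fun w hw =>
    sq_one_cases (Subgroup.isCyclic_zpowers ι) (Subgroup.mem_zpowers ι) hw hιι hι1 (by
      obtain ⟨n, rfl⟩ := Subgroup.mem_zpowers_iff.1 hw
      rw [← (Commute.refl ι).mul_zpow, hιι, one_zpow])
  have hno4 : ∀ j ∈ Subgroup.zpowers ι, orderOf j ≠ 4 := fun j hj h4 => by
    rcases hzι j hj with rfl | rfl
    · rw [orderOf_one] at h4; omega
    · have := orderOf_dvd_of_pow_eq_one (show j ^ 2 = 1 by rw [pow_two, hιι])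
      rw [h4] at this; norm_num at this
  by_cases hno : ∀ E : Subgroup X, E.Normal → E ≤ S → Cfsg.IsElementaryAbelian 2 E → Nat.card E = 4 → False
  · obtain ⟨C, hCn, hCS, hCc, hprod, hinv⟩ := exists_cyclic_normal hX S hno
    by_cases hC : C = ⊥
    · subst hC
      have hall : ∀ x ∈ S, x ∈ Subgroup.zpowers ι := fun x hx => by
        by_cases hx1 : x = 1
        · rw [hx1]; exact one_mem _
        · have h := hprod x hx ι hιS (fun h => hx1 (Subgroup.mem_bot.1 h)) (fun h => hι1 (Subgroup.mem_bot.1 h))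
          rw [mul_eq_one_iff_eq_inv.1 (Subgroup.mem_bot.1 h)]
          exact inv_mem (Subgroup.mem_zpowers ι)
      exact ⟨_, hzn, Subgroup.zpowers_le.2 hιS, Subgroup.isCyclic_zpowers ι, Subgroup.mem_zpowers ι,
        fun x hx y _ hxC _ => absurd (hall x hx) hxC, fun j hj h4 => absurd h4 (hno4 j hj)⟩
    · exact ⟨C, hCn, hCS, hCc, (hmem C hCn hCS hC).1, hprod, hinv⟩
  push Not at hno
  obtain ⟨E, hEn, hES, hE, hE4⟩ := hno
  haveI := hEn
  obtain ⟨hιE, -, -, -, f, hfE, hff, hf1, hfι, hfc, hall, hτf, hconj⟩ :=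
    four_data hX hES hE hE4.1 (τ := τ) (ι := ι) fun x hx _ h => hfix x hx h
  have hcentE := cent_four hX hττ hιE hfE hι1 hιι hcen hff hτf hall fun x hx _ h => by
    rcases h with h | h
    · rcases hfix x hx h with rfl | rfl
      · exact one_mem E
      · exact hιE
    · have : x * f ∈ E := by
        rcases hfix _ (mul_mem hx (hES hfE)) h with e | e <;> rw [e]
        · exact one_mem E
        · exact hιE
      have := mul_mem this hfE
      rwa [mul_assoc, hff, mul_one] at this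
  by_cases hS : ∀ x ∈ S, x * f = f * x
  · refine ⟨_, hzn, Subgroup.zpowers_le.2 hιS, Subgroup.isCyclic_zpowers ι, Subgroup.mem_zpowers ι,
      fun x hx y hy hxC hyC => ?_, fun j hj h4 => absurd h4 (hno4 j hj)⟩
    have hout : ∀ w ∈ S, w ∉ Subgroup.zpowers ι → w = f ∨ w = f * ι := fun w hw hwC => by
      rcases hall w (hcentE w hw (hS w hw)) with e | e | e | e
      · exact absurd (e ▸ one_mem _) hwC
      · exact absurd (e ▸ Subgroup.mem_zpowers ι) hwC
      · exact Or.inl e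
      · exact Or.inr e
    rcases hout x hx hxC with rfl | rfl <;> rcases hout y hy hyC with rfl | rfl
    · rw [hff]; exact one_mem _
    · rw [← mul_assoc, hff, one_mul]; exact Subgroup.mem_zpowers ι
    · rw [hfc, mul_assoc, hff, mul_one]; exact Subgroup.mem_zpowers ι
    · rw [show f * ι * (f * ι) = f * (ι * f) * ι by group, ← hfc, ← mul_assoc, hff, one_mul, hιι]; exact one_mem _
  push Not at hS
  -- an element moving `f` and squaring to `ι`
  obtain ⟨x, hxS, hxf, hxx⟩ : ∃ x ∈ S, x * f * x⁻¹ = f * ι ∧ x * x = ι := by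
    obtain ⟨x, hx, hne⟩ := hS
    have hxf : x * f * x⁻¹ = f * ι := (hconj x).resolve_left fun h => hne (mul_inv_eq_iff_eq_mul.1 h)
    have h2f : x * x * f * (x * x)⁻¹ = f := by
      calc x * x * f * (x * x)⁻¹ = x * (x * f * x⁻¹) * x⁻¹ := by group
        _ = x * f * x⁻¹ * (x * ι * x⁻¹) := by
          conv_lhs => rw [hxf]
          group
        _ = f := by rw [hxf, hcen, mul_assoc, hιι, mul_one]
    have hcx : x * ι = ι * x := mul_inv_eq_iff_eq_mul.1 (hcen x)
    rcases hall _ (hcentE _ (mul_mem hx hx) (mul_inv_eq_iff_eq_mul.1 h2f)) with h | h | h | h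
    · refine ⟨x * f, mul_mem hx (hES hfE), ?_, ?_⟩
      · rw [show x * f * f * (x * f)⁻¹ = x * f * x⁻¹ by group, hxf]
      · rw [show x * f * (x * f) = x * f * x⁻¹ * (x * x) * f by group, hxf, h, mul_one, hfc, mul_assoc, hff, mul_one]
    · exact ⟨x, hx, hxf, h⟩
    · exact absurd (by rw [← h]; group) hne
    · refine absurd ?_ hne
      have e : x * (f * ι) = f * ι * x := by rw [← h]; group
      rw [← mul_assoc, mul_assoc f, ← hcx, ← mul_assoc] at e
      exact mul_right_cancel e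
  have hx4 : x ^ 4 = 1 := by rw [show x ^ 4 = x * x * (x * x) by simp [pow_succ, mul_assoc], hxx, hιι]
  have hιx : ι ∈ Subgroup.zpowers x := hxx ▸ mul_mem (Subgroup.mem_zpowers x) (Subgroup.mem_zpowers x)
  have hfxf : f * x * f⁻¹ = x⁻¹ := by
    have e1 : f * x = x * f * ι := by
      have e2 : x * f = f * ι * x := mul_inv_eq_iff_eq_mul.1 hxf
      rw [mul_assoc, hfc, ← mul_assoc, mul_inv_eq_iff_eq_mul.1 (hcen x), mul_assoc, e2,
        show ι * (f * ι * x) = ι * f * ι * x by group, ← hfc, mul_assoc f ι ι, hιι, mul_one]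
    rw [e1, mul_inv_eq_iff_eq_mul, eq_comm, inv_mul_eq_iff_eq_mul, ← mul_assoc, ← mul_assoc, hxx, ← hfc, mul_assoc,
      hιι, mul_one]
  have hfinv : ∀ c ∈ Subgroup.zpowers x, f * c * f⁻¹ = c⁻¹ := fun c hc => by
    obtain ⟨n, rfl⟩ := Subgroup.mem_zpowers_iff.1 hc
    rw [← conj_zpow, hfxf, inv_zpow]
  have hdec : ∀ y ∈ S, y ∈ Subgroup.zpowers x ∨ ∃ c ∈ Subgroup.zpowers x, y = c * f := by
    intro y hy
    have hE' : ∀ w ∈ E, ∀ c ∈ Subgroup.zpowers x, c * w ∈ Subgroup.zpowers x ∨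
        ∃ d ∈ Subgroup.zpowers x, c * w = d * f := fun w hw c hc => by
      rcases hall w hw with rfl | rfl | rfl | rfl
      · exact Or.inl (by rwa [mul_one])
      · exact Or.inl (mul_mem hc hιx)
      · exact Or.inr ⟨c, hc, rfl⟩
      · exact Or.inr ⟨c * ι, mul_mem hc hιx, by rw [hfc, mul_assoc]⟩
    rcases hconj y with h | h
    · have := hE' y (hcentE y hy (mul_inv_eq_iff_eq_mul.1 h)) 1 (one_mem _)
      rwa [one_mul] at this
    · have hw : x⁻¹ * y ∈ E := hcentE _ (mul_mem (inv_mem hxS) hy) (mul_inv_eq_iff_eq_mul.1 (by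
        rw [show x⁻¹ * y * f * (x⁻¹ * y)⁻¹ = x⁻¹ * (y * f * y⁻¹) * x by group, h, ← hxf]; group))
      have := hE' _ hw x (Subgroup.mem_zpowers x)
      rwa [mul_inv_cancel_left] at this
  have hsqf : ∀ c ∈ Subgroup.zpowers x, c * f * (c * f) = 1 := fun c hc => by
    rw [show c * f * (c * f) = c * (f * c * f⁻¹) * (f * f) by group, hfinv c hc, hff, mul_inv_cancel, one_mul]
  refine ⟨Subgroup.zpowers x, ⟨fun w hw g => ?_⟩, Subgroup.zpowers_le.2 hxS, Subgroup.isCyclic_zpowers x, hιx,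
    fun p hp q hq hpC hqC => ?_, fun j hj _ p hp hpC => ?_⟩
  · obtain ⟨n, rfl⟩ := Subgroup.mem_zpowers_iff.1 hw
    rw [← conj_zpow]
    refine Subgroup.zpow_mem _ ?_ n
    rcases hdec _ (hSn.conj_mem x hxS g) with h | ⟨c, hc, h⟩
    · exact h
    · refine absurd ?_ hι1
      have e : g * x * g⁻¹ * (g * x * g⁻¹) = ι := by
        rw [show g * x * g⁻¹ * (g * x * g⁻¹) = g * (x * x) * g⁻¹ by group, hxx, hcen]
      rw [← e, h, hsqf c hc]
  · obtain ⟨c, hc, rfl⟩ := (hdec p hp).resolve_left hpC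
    obtain ⟨d, hd, rfl⟩ := (hdec q hq).resolve_left hqC
    rw [show c * f * (d * f) = c * (f * d * f⁻¹) * (f * f) by group, hfinv d hd, hff, mul_one]
    exact mul_mem hc (inv_mem hd)
  · obtain ⟨c, hc, rfl⟩ := (hdec p hp).resolve_left hpC
    rw [show c * f * j * (c * f)⁻¹ = c * (f * j * f⁻¹) * c⁻¹ by group, hfinv j hj]
    obtain ⟨n, rfl⟩ := Subgroup.mem_zpowers_iff.1 hc
    obtain ⟨m, rfl⟩ := Subgroup.mem_zpowers_iff.1 hj
    group

end Cfsg.Agent.Fusion.RankOne
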